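import Cfsg.Agent.Lib.TwoRadical.SUThreeData
import Cfsg.Agent.Lib.ClassicalGroups.UnitarySimple

/-!
# Transvections and monomial points of `SU(n,2)` over `GF4`
-/

set_option autoImplicit false
set_option linter.unusedSectionVars false

namespace CfsgLib.TwoRadicalSU

open CfsgLib.TwoRadical CfsgLib.ClassicalGroups Matrix

/-- Vectors. -/
abbrev Vec (n : ℕ) : Type := Fin n → GF4

/-- The special unitary group. -/
abbrev SUn (n : ℕ) : Type := ↥(Cfsg.SU n GF4 2)

/-- The form. -/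
abbrev hf {n : ℕ} (u v : Vec n) : GF4 := Cfsg.hermForm n GF4 2 u v

theorem card_eq : Fintype.card GF4 = 2 ^ 2 := GF4.card_four

namespace K

theorem add_self : ∀ a : GF4, a + a = 0 := by decide +kernel
theorem sub_eq_add' : ∀ a b : GF4, a - b = a + b := by decide +kernel
theorem neg_eq' : ∀ a : GF4, -a = a := by decide +kernel
theorem sq_sq : ∀ a : GF4, (a ^ 2) ^ 2 = a := by decide +kernel
theorem sq_add : ∀ a b : GF4, (a + b) ^ 2 = a ^ 2 + b ^ 2 := by decide +kernel
theorem cube : ∀ a : GF4, a ≠ 0 → a * a ^ 2 = 1 := by decide +kernel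
theorem cases : ∀ a : GF4, a = 0 ∨ a = 1 ∨ a = GF4.w ∨ a = GF4.w ^ 2 := by decide +kernel
theorem w_ne : GF4.w ≠ 0 ∧ GF4.w ≠ 1 ∧ GF4.w ^ 2 ≠ GF4.w ∧ GF4.w ^ 2 ≠ 1 ∧ GF4.w ^ 2 ≠ 0 := by
  decide +kernel
theorem w_rel : GF4.w + GF4.w ^ 2 = 1 ∧ 1 + GF4.w = GF4.w ^ 2 ∧ 1 + GF4.w ^ 2 = GF4.w ∧
    GF4.w * GF4.w ^ 2 = 1 := by decide +kernel

instance : CharP GF4 2 := CharTwo.of_one_ne_zero_of_two_eq_zero one_ne_zero (by decide +kernel)

end K

variable {n : ℕ}

theorem vadd_self (x : Vec n) : x + x = 0 := funext fun i => K.add_self (x i)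

theorem hf_add_left (u u' v : Vec n) : hf (u + u') v = hf u v + hf u' v := hermForm_add_left n u u' v

theorem hf_add_right (u v v' : Vec n) : hf u (v + v') = hf u v + hf u v' := hermForm_add_right card_eq u v v'

theorem hf_smul_left (a : GF4) (u v : Vec n) : hf (a • u) v = a * hf u v := hermForm_smul_left n a u v

theorem hf_smul_right (a : GF4) (u v : Vec n) : hf u (a • v) = a ^ 2 * hf u v := hermForm_smul_right n a u v

theorem hf_symm (u v : Vec n) : hf v u = hf u v ^ 2 := hermForm_symm card_eq n u v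

theorem hf_zero_symm {u v : Vec n} (h : hf u v = 0) : hf v u = 0 := by
  rw [hf_symm, h]; exact zero_pow two_ne_zero

theorem hf_zero_left (v : Vec n) : hf 0 v = 0 := hermForm_zero_left v

theorem hf_zero_right (v : Vec n) : hf v 0 = 0 := hf_zero_symm (hf_zero_left v)

theorem hf_single (u : Vec n) (i : Fin n) : hf u (Pi.single i 1) = u i := hermForm_single_right card_eq n u i

/-- A non-zero isotropic vector. -/
def Iso (v : Vec n) : Prop := v ≠ 0 ∧ hf v v = 0

theorem Iso.smul {v : Vec n} (hv : Iso v) {a : GF4} (ha : a ≠ 0) : Iso (a • v) :=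
  ⟨smul_ne_zero ha hv.1, by rw [hf_smul_left, hf_smul_right, hv.2, mul_zero, mul_zero]⟩

/-- The transvection with centre `v`. -/
def tv (v x : Vec n) : Vec n := x + hf x v • v

theorem tv_smul {a : GF4} (ha : a ≠ 0) (v : Vec n) : tv (a • v) = tv v := funext fun x => by
  rw [tv, tv, hf_smul_right, smul_smul, show a ^ 2 * hf x v * a = (a * a ^ 2) * hf x v by ring,
    K.cube a ha, one_mul]

theorem tv_apply_smul (v : Vec n) (a : GF4) (x : Vec n) : tv v (a • x) = a • tv v x := by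
  rw [tv, tv, smul_add, smul_smul, hf_smul_left]

theorem tv_perp {v x : Vec n} (h : hf x v = 0) : tv v x = x := by rw [tv, h, zero_smul, add_zero]

theorem hf_tv {v : Vec n} (hv : hf v v = 0) (x y : Vec n) : hf (tv v x) (tv v y) = hf x y := by
  simp only [tv, hf_add_left, hf_add_right, hf_smul_left, hf_smul_right, hv, hf_symm y v, mul_zero, add_zero]
  rw [add_assoc, mul_comm (hf y v ^ 2) (hf x v), K.add_self, add_zero]

theorem tv_tv {v : Vec n} (hv : hf v v = 0) (x : Vec n) : tv v (tv v x) = x := by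
  show tv v x + hf (tv v x) v • v = x
  rw [tv, hf_add_left, hf_smul_left, hv, mul_zero, add_zero, add_assoc, vadd_self, add_zero]

theorem Iso.tv {u v : Vec n} (hu : hf u u = 0) (hv : Iso v) : Iso (tv u v) := by
  refine ⟨fun h => hv.1 ?_, by rw [hf_tv hu, hv.2]⟩
  rw [← tv_tv hu v, h, TwoRadicalSU.tv, hf_zero_left, zero_smul, zero_add]

theorem mulVec_tvMatrix (v x : Vec n) : Cfsg.unitaryTransvection n 2 v 1 *ᵥ x = tv v x := by
  rw [CfsgLib.ClassicalGroups.unitaryTransvection_mulVec, one_mul]; rfl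

theorem exists_tEl {v : Vec n} (hv : hf v v = 0) : ∃ A : SUn n, ∀ x, A.1.1 *ᵥ x = tv v x := by
  obtain ⟨A, hA⟩ := exists_SU_tv card_eq hv (c := (1 : GF4)) (by decide +kernel)
  exact ⟨A, fun x => by rw [hA, mulVec_tvMatrix]⟩

open Classical in
/-- The transvection as an element of the group. -/
noncomputable def tEl (v : Vec n) : SUn n :=
  if h : hf v v = 0 then (exists_tEl h).choose else 1

theorem tEl_apply {v : Vec n} (hv : hf v v = 0) (x : Vec n) : (tEl v).1.1 *ᵥ x = tv v x := by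
  rw [tEl, dif_pos hv]; exact (exists_tEl hv).choose_spec x

theorem tEl_smul {v : Vec n} (hv : hf v v = 0) {a : GF4} (ha : a ≠ 0) : tEl (a • v) = tEl v :=
  SU_ext fun x => by
    rw [tEl_apply (by rw [hf_smul_left, hf_smul_right, hv, mul_zero, mul_zero]), tEl_apply hv, tv_smul ha]

theorem tEl_mul_self {v : Vec n} (hv : hf v v = 0) : tEl v * tEl v = 1 :=
  SU_ext fun x => by rw [SU_mul_mulVec, tEl_apply hv, tEl_apply hv, tv_tv hv, SU_one_mulVec]

theorem tEl_inv {v : Vec n} (hv : hf v v = 0) : (tEl v)⁻¹ = tEl v :=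
  inv_eq_of_mul_eq_one_right (tEl_mul_self hv)

theorem hf_map (g : SUn n) (x y : Vec n) : hf (g.1.1 *ᵥ x) (g.1.1 *ᵥ y) = hf x y := mem_SU_iff.1 g.2 x y

theorem Iso.map {v : Vec n} (g : SUn n) (hv : Iso v) : Iso (g.1.1 *ᵥ v) :=
  ⟨fun h => hv.1 (by rw [← SU_inv_mulVec_mulVec g v, h, Matrix.mulVec_zero]), by rw [hf_map, hv.2]⟩

theorem conj_tEl (g : SUn n) {v : Vec n} (hv : hf v v = 0) : g * tEl v * g⁻¹ = tEl (g.1.1 *ᵥ v) := by
  refine SU_ext fun x => ?_
  rw [SU_mul_mulVec, SU_mul_mulVec, tEl_apply hv, tEl_apply (by rw [hf_map, hv]), tv, tv, Matrix.mulVec_add,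
    Matrix.mulVec_smul, SU_mulVec_inv_mulVec]
  congr 2
  conv_rhs => rw [← SU_mulVec_inv_mulVec g x, hf_map]

theorem conj_tEl_tEl {u v : Vec n} (hu : hf u u = 0) (hv : hf v v = 0) :
    tEl u * tEl v * tEl u = tEl (tv u v) := by
  have h := conj_tEl (tEl u) hv
  rwa [tEl_inv hu, tEl_apply hu] at h

theorem tEl_ne_one {v : Vec n} (hv : Iso v) : tEl v ≠ 1 := by
  obtain ⟨x, hx⟩ := exists_pairing_ne (q := 2) card_eq hv.1
  intro h
  have h' := tEl_apply hv.2 x
  rw [h, SU_one_mulVec, tv, left_eq_add, smul_eq_zero] at h'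
  rcases h' with h' | h'
  · have : hf v x = 0 := hf_zero_symm h'
    exact one_ne_zero (α := GF4) (hx.symm.trans this)
  · exact hv.1 h'

theorem eq_smul_of_tEl_eq {u v : Vec n} (hu : Iso u) (hv : Iso v) (h : tEl u = tEl v) :
    ∃ a : GF4, a ≠ 0 ∧ v = a • u := by
  obtain ⟨x, hx⟩ := exists_pairing_ne (q := 2) card_eq hv.1
  have h' := tEl_apply hv.2 x
  rw [← h, tEl_apply hu.2, tv, tv, add_right_inj, show hf x v = 1 by rw [hf_symm v x]; exact (congrArg (· ^ 2) hx).trans (one_pow 2),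
    one_smul] at h'
  exact ⟨hf x u, fun e => hv.1 (by rw [← h', e, zero_smul]), h'.symm⟩

theorem commute_of_perp {u v : Vec n} (hu : hf u u = 0) (hv : hf v v = 0) (h : hf u v = 0) :
    Commute (tEl u) (tEl v) := by
  have e := conj_tEl (tEl u) hv
  rw [tEl_apply hu, tv_perp (hf_zero_symm h)] at e
  exact mul_inv_eq_iff_eq_mul.1 e

theorem perp_of_commute {u v : Vec n} (hu : Iso u) (hv : Iso v) (h : Commute (tEl u) (tEl v)) : hf u v = 0 := by
  have e := conj_tEl (tEl u) hv.2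
  rw [h.eq, mul_inv_cancel_right, tEl_apply hu.2] at e
  obtain ⟨a, -, ha⟩ := eq_smul_of_tEl_eq hv (hv.tv hu.2) e
  by_contra hne
  have h1 : hf v u • u = (a + 1) • v := by
    calc hf v u • u = tv u v + v := by rw [tv, add_comm v, add_assoc, vadd_self, add_zero]
      _ = _ := by rw [ha, add_smul, one_smul]
  have hvu : hf v u ≠ 0 := fun e => hne (hf_zero_symm e)
  have h2 : u = ((hf v u)⁻¹ * (a + 1)) • v := by rw [← smul_smul, ← h1, inv_smul_smul₀ hvu]
  exact hne (by rw [h2, hf_smul_left, hv.2, mul_zero])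

/-! ### Monomial points -/

/-- The vector `e_i + a e_j`. -/
def pv (i j : Fin n) (a : GF4) : Vec n := Pi.single i 1 + a • Pi.single j 1

theorem hf_pv (x : Vec n) (i j : Fin n) (a : GF4) : hf x (pv i j a) = x i + a ^ 2 * x j := by
  rw [pv, hf_add_right, hf_smul_right, hf_single, hf_single]

theorem pv_apply (i j : Fin n) (a : GF4) (k : Fin n) :
    pv i j a k = (if k = i then 1 else 0) + a * (if k = j then 1 else 0) := by
  simp [pv, Pi.single_apply]

theorem pv_left {i j : Fin n} (h : i ≠ j) (a : GF4) : pv i j a i = 1 := by simp [pv_apply, h]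
theorem pv_right {i j : Fin n} (h : i ≠ j) (a : GF4) : pv i j a j = a := by simp [pv_apply, h.symm]
theorem pv_other {i j k : Fin n} (hi : k ≠ i) (hj : k ≠ j) (a : GF4) : pv i j a k = 0 := by
  simp [pv_apply, hi, hj]

theorem iso_pv {i j : Fin n} (h : i ≠ j) {a : GF4} (ha : a ≠ 0) : Iso (pv i j a) := by
  refine ⟨fun e => ?_, ?_⟩
  · have := congrFun e i; rw [pv_left h] at this; exact one_ne_zero this
  · rw [hf_pv, pv_left h, pv_right h, mul_comm, K.cube a ha, K.add_self]

theorem pv_swap {i j : Fin n} {a : GF4} (ha : a ≠ 0) : pv j i (a ^ 2) = a ^ 2 • pv i j a := by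
  rw [pv, pv, smul_add, smul_smul, mul_comm (a ^ 2) a, K.cube a ha, one_smul, add_comm]

theorem perp_pv {i j k l : Fin n} (hik : k ≠ i) (hil : l ≠ i) (hjk : k ≠ j) (hjl : l ≠ j) (a b : GF4) :
    hf (pv k l b) (pv i j a) = 0 := by
  rw [hf_pv, pv_other hik.symm hil.symm, pv_other hjk.symm hjl.symm, mul_zero, add_zero]

/-- A monomial transvection exchanges two coordinates with phases. -/
theorem tv_pv {i j : Fin n} (h : i ≠ j) {a : GF4} (ha : a ≠ 0) (x : Vec n) (k : Fin n) :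
    tv (pv i j a) x k = if k = i then a ^ 2 * x j else if k = j then a * x i else x k := by
  rw [tv, Pi.add_apply, Pi.smul_apply, hf_pv, smul_eq_mul]
  by_cases hi : k = i
  · rw [if_pos hi, hi, pv_left h, mul_one, ← add_assoc, K.add_self, zero_add]
  · rw [if_neg hi]
    by_cases hj : k = j
    · rw [if_pos hj, hj, pv_right h, add_mul, show a ^ 2 * x j * a = (a * a ^ 2) * x j by ring, K.cube a ha,
        one_mul, add_comm (x i * a), ← add_assoc, K.add_self, zero_add, mul_comm]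
    · rw [if_neg hj, pv_other hi hj, mul_zero, add_zero]

theorem tv_pv_pv {i j k : Fin n} (hij : i ≠ j) (hjk : j ≠ k) (hik : i ≠ k) {a b : GF4} (hb : b ≠ 0) :
    tv (pv j k b) (pv i j a) = pv i k (a * b) := by
  funext l
  rw [tv_pv hjk hb]
  by_cases hj : l = j
  · rw [if_pos hj, hj, pv_other hik.symm hjk.symm, pv_other hij.symm hjk, mul_zero]
  · rw [if_neg hj]
    by_cases hk : l = k
    · rw [if_pos hk, hk, pv_right hik, pv_right hij, mul_comm]
    · rw [if_neg hk]
      simp [pv_apply, hj, hk]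

theorem tv_pv_same {i j : Fin n} (hij : i ≠ j) {a b : GF4} (ha : a ≠ 0) (hb : b ≠ 0) :
    tv (pv i j a) (pv i j b) = (a ^ 2 * b) • pv i j (a ^ 2 * b ^ 2) := by
  have key : ∀ a b : GF4, a ≠ 0 → b ≠ 0 → a * 1 = a ^ 2 * b * (a ^ 2 * b ^ 2) := by decide +kernel
  funext l
  rw [tv_pv hij ha, Pi.smul_apply, smul_eq_mul]
  by_cases hi : l = i
  · rw [if_pos hi, hi, pv_left hij, pv_right hij, mul_one]
  · rw [if_neg hi]
    by_cases hj : l = j
    · rw [if_pos hj, hj, pv_left hij, pv_right hij, key a b ha hb]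
    · rw [if_neg hj, pv_other hi hj, pv_other hi hj, mul_zero]

theorem tv_pv_fixed {i j : Fin n} {a : GF4} (ha : a ≠ 0) {x : Vec n} (hx : x j = a * x i) :
    tv (pv i j a) x = x := tv_perp (by
  rw [hf_pv, hx, ← mul_assoc, mul_comm (a ^ 2) a, K.cube a ha, one_mul, K.add_self])

end CfsgLib.TwoRadicalSU
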