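import Cfsg.Agent.Lib.TwoRadicalSU.Geom
import Cfsg.Agent.Lib.ThreeTrans.Basic

/-!
# A class of 3-transpositions of `SU(n,2)` consists of the transvections
-/

set_option autoImplicit false
set_option linter.unusedSectionVars false

namespace CfsgLib.TwoRadicalSU

open CfsgLib.TwoRadical CfsgLib.ClassicalGroups Matrix

variable {n : ℕ}

theorem exists_self_pairing {N : Vec n →ₗ[GF4] Vec n} (hadj : ∀ x y, hf (N x) y = hf x (N y))
    (hne : ∃ x, N x ≠ 0) : ∃ x, hf (N x) x = 1 := by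
  obtain ⟨x₀, hx₀⟩ := hne
  obtain ⟨y, hy⟩ := exists_pairing_ne (q := 2) card_eq hx₀
  have hy' : hf (N x₀) y = 1 := hy
  have hyx : hf (N y) x₀ = 1 := by rw [hadj, hf_symm (N x₀) y, hy']; exact one_pow 2
  have fin : ∀ x, hf (N x) x ≠ 0 → hf (N x) x = 1 := by
    intro x hx
    have h2 : ∀ a : GF4, a ^ 2 = a → a ≠ 0 → a = 1 := by decide +kernel
    refine h2 _ ?_ hx
    rw [← hf_symm (N x) x, ← hadj]
  by_contra hc
  push Not at hc
  have h0 : ∀ x, hf (N x) x = 0 := fun x => by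
    by_contra h; exact hc x (fin x h)
  have e := h0 (GF4.w • x₀ + y)
  rw [map_add, map_smul, hf_add_left, hf_add_right, hf_add_right, hf_smul_left, hf_smul_left, hf_smul_right,
    hf_smul_right, h0, h0, hy', hyx] at e
  revert e
  decide +kernel

theorem bad_products {A : SUn n} {p₁ p₂ x₁ x₂ : Vec n} (happ₁ : A.1.1 *ᵥ x₁ = x₁ + p₁)
    (happ₂ : A.1.1 *ᵥ x₂ = x₂ + p₂) (hq₁ : A.1.1 *ᵥ p₁ = p₁) (hq₂ : A.1.1 *ᵥ p₂ = p₂)
    (g11 : hf p₁ x₁ = 1) (g12 : hf p₁ x₂ = 0) (g21 : hf p₂ x₁ = 0) (g22 : hf p₂ x₂ = 1)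
    (pp : ∀ a ∈ [p₁, p₂], ∀ b ∈ [p₁, p₂], hf a b = 0) (xx : ∀ a ∈ [x₁, x₂], ∀ b ∈ [x₁, x₂], hf a b = 0) :
    ∃ s : SUn n, (A * (s * A * s⁻¹)) ^ 2 ≠ 1 ∧ (A * (s * A * s⁻¹)) ^ 3 ≠ 1 := by
  simp only [List.mem_cons, List.not_mem_nil, or_false, forall_eq_or_imp, forall_eq] at pp xx
  obtain ⟨⟨a11, a12⟩, a21, a22⟩ := pp
  obtain ⟨⟨b11, b12⟩, b21, b22⟩ := xx
  have g11' : hf x₁ p₁ = 1 := by rw [hf_symm, g11]; exact one_pow 2
  have g22' : hf x₂ p₂ = 1 := by rw [hf_symm, g22]; exact one_pow 2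
  have g12' := hf_zero_symm g12
  have g21' := hf_zero_symm g21
  have hu : hf (x₁ + x₂) (x₁ + x₂) = 0 := by simp [hf_add_left, hf_add_right, b11, b12, b21, b22]
  set s := tEl x₂ * tEl (x₁ + x₂) with hs
  have hsi : s⁻¹ = tEl (x₁ + x₂) * tEl x₂ := by rw [hs, _root_.mul_inv_rev, tEl_inv hu, tEl_inv b22]
  set W := A * (s * A * s⁻¹) with hW
  have happ : ∀ y, W.1.1 *ᵥ y =
      A.1.1 *ᵥ tv x₂ (tv (x₁ + x₂) (A.1.1 *ᵥ tv (x₁ + x₂) (tv x₂ y))) := by
    intro y
    rw [hW, hsi, hs]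
    simp only [SU_mul_mulVec, tEl_apply hu, tEl_apply b22]
  have dp : ∀ x y : Vec n, x + (x + y) = y := fun x y => by rw [← add_assoc, vadd_self, zero_add]
  have w1 : W.1.1 *ᵥ p₁ = x₂ := by
    rw [happ]
    simp [tv, hf_add_left, hf_add_right, hf_smul_left, Matrix.mulVec_add, *, K.add_self]
    try simp [add_comm, add_left_comm, vadd_self, dp]
  have w2 : W.1.1 *ᵥ x₂ = p₁ + x₁ + x₂ := by
    rw [happ]
    simp [tv, hf_add_left, hf_add_right, hf_smul_left, Matrix.mulVec_add, *, K.add_self]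
    try simp [add_comm, add_left_comm, vadd_self, dp]
  have w3 : W.1.1 *ᵥ (p₁ + x₁ + x₂) = p₂ + x₁ + x₂ := by
    rw [happ]
    simp [tv, hf_add_left, hf_add_right, hf_smul_left, Matrix.mulVec_add, *, K.add_self]
    try simp [add_comm, add_left_comm, vadd_self, dp]
  refine ⟨s, fun h => ?_, fun h => ?_⟩ <;> rw [← hW] at h
  · have h' := congrArg (fun g : SUn n => g.1.1 *ᵥ p₁) h
    simp only [pow_two, SU_mul_mulVec, SU_one_mulVec, w1, w2] at h'
    have h'' := congrArg (fun y => hf y p₁) h'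
    simp [hf_add_left, a11, g11', g21', g12', g22', a12, a21] at h''
  · have h' := congrArg (fun g : SUn n => g.1.1 *ᵥ p₁) h
    simp only [pow_succ, pow_zero, one_mul, SU_mul_mulVec, SU_one_mulVec, w1, w2, w3] at h'
    have h'' := congrArg (fun y => hf y p₁) h'
    simp [hf_add_left, a11, g11', g21', g12', g22', a12, a21] at h''

theorem tEl_of_three {A : SUn n} (hA : A * A = 1) (hA1 : A ≠ 1)
    (h3 : ∀ s : SUn n, (A * (s * A * s⁻¹)) ^ 2 = 1 ∨ (A * (s * A * s⁻¹)) ^ 3 = 1) :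
    ∃ v, Iso v ∧ A = tEl v := by
  let N : Vec n →ₗ[GF4] Vec n :=
    { toFun := fun x => A.1.1 *ᵥ x + x
      map_add' := fun a b => by rw [Matrix.mulVec_add]; abel
      map_smul' := fun c a => by rw [Matrix.mulVec_smul, RingHom.id_apply, smul_add] }
  have happ : ∀ x, A.1.1 *ᵥ x = x + N x := fun x => by
    show _ = x + (A.1.1 *ᵥ x + x)
    rw [add_left_comm, vadd_self, add_zero]
  have hAA : ∀ x, A.1.1 *ᵥ (A.1.1 *ᵥ x) = x := fun x => by rw [← SU_mul_mulVec, hA, SU_one_mulVec]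
  have hN : ∀ x, N (N x) = 0 := fun x => by
    show A.1.1 *ᵥ (A.1.1 *ᵥ x + x) + (A.1.1 *ᵥ x + x) = 0
    rw [Matrix.mulVec_add, hAA]
    exact (add_comm _ _).trans (by rw [add_comm x, vadd_self])
  have hadj : ∀ x y, hf (N x) y = hf x (N y) := fun x y => by
    have h1 : hf (A.1.1 *ᵥ x) y = hf x (A.1.1 *ᵥ y) := by conv_lhs => rw [← hAA y, hf_map]
    show hf (A.1.1 *ᵥ x + x) y = hf x (A.1.1 *ᵥ y + y)
    rw [hf_add_left, hf_add_right, h1]
  have hperp : ∀ a b, hf (N a) (N b) = 0 := fun a b => by rw [hadj, hN, hf_zero_right]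
  have hne : ∃ x, N x ≠ 0 := by
    by_contra h
    push Not at h
    exact hA1 (SU_ext fun x => by rw [happ, h, add_zero, SU_one_mulVec])
  obtain ⟨x, hx⟩ := exists_self_pairing hadj hne
  set p := N x with hp
  have hp0 : p ≠ 0 := fun e => by rw [e, hf_zero_left] at hx; exact zero_ne_one hx
  have hxp : hf x p = 1 := by rw [hf_symm, hx]; exact one_pow 2
  by_cases hone : ∀ y, N y = hf y p • p
  · exact ⟨p, ⟨hp0, hperp x x⟩, SU_ext fun y => by rw [happ, tEl_apply (hperp x x), tv, hone]⟩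
  push Not at hone
  obtain ⟨y₀, hy₀⟩ := hone
  let N' : Vec n →ₗ[GF4] Vec n :=
    { toFun := fun y => N y + hf y p • p
      map_add' := fun a b => by rw [map_add, hf_add_left, add_smul]; abel
      map_smul' := fun c a => by rw [map_smul, hf_smul_left, RingHom.id_apply, smul_add, smul_smul] }
  have hadj' : ∀ a b, hf (N' a) b = hf a (N' b) := fun a b => by
    show hf (N a + hf a p • p) b = hf a (N b + hf b p • p)
    rw [hf_add_left, hf_add_right, hf_smul_left, hf_smul_right, hadj, hf_symm b p, mul_comm]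
  obtain ⟨y, hy⟩ := exists_self_pairing hadj' ⟨y₀, fun h => hy₀ (by
    have h' : N y₀ + hf y₀ p • p = 0 := h
    exact (eq_neg_of_add_eq_zero_left h').trans (funext fun i => K.neg_eq' _))⟩
  set z := y + hf y p • x with hz
  set p₂ := N z with hp₂
  have hp₂' : p₂ = N' y := by rw [hp₂, hz, map_add, map_smul]; rfl
  have hzp : hf z p = 0 := by rw [hz, hf_add_left, hf_smul_left, hxp, mul_one, K.add_self]
  have hpz : hf p z = 0 := hf_zero_symm hzp
  have hp2x : hf p₂ x = 0 := by rw [hp₂, hadj, ← hp, hzp]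
  have hp22 : hf p₂ z = 1 := by
    rw [hp₂', hz, hf_add_right, hf_smul_right, hy, ← hp₂', hp2x, mul_zero, add_zero]
  set x₁ := x + (GF4.w * hf x x) • p with hx₁
  set z₁ := z + hf z x₁ • p with hz₁
  set x₂ := z₁ + (GF4.w * hf z₁ z₁) • p₂ with hx₂
  have hpp : hf p p = 0 := hperp x x
  have hpp2 : hf p p₂ = 0 := hperp x z
  have hp2p : hf p₂ p = 0 := hperp z x
  have hp2p2 : hf p₂ p₂ = 0 := hperp z z
  have hNp : N p = 0 := hN x
  have hNp₂ : N p₂ = 0 := hN z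
  have key : ∀ c : GF4, c ^ 2 = c → c + (GF4.w * c) ^ 2 + GF4.w * c = 0 := by decide +kernel
  have hself : ∀ u : Vec n, hf u u ^ 2 = hf u u := fun u => (hf_symm u u).symm
  have g11 : hf p x₁ = 1 := by rw [hx₁, hf_add_right, hf_smul_right, hx, hpp, mul_zero, add_zero]
  have g11' : hf x₁ p = 1 := by rw [hf_symm, g11]; exact one_pow 2
  have g21 : hf p₂ x₁ = 0 := by rw [hx₁, hf_add_right, hf_smul_right, hp2x, hp2p, mul_zero, add_zero]
  have hpz₁ : hf p z₁ = 0 := by rw [hz₁, hf_add_right, hf_smul_right, hpz, hpp, mul_zero, add_zero]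
  have hp2z₁ : hf p₂ z₁ = 1 := by rw [hz₁, hf_add_right, hf_smul_right, hp22, hp2p, mul_zero, add_zero]
  have g12 : hf p x₂ = 0 := by rw [hx₂, hf_add_right, hf_smul_right, hpz₁, hpp2, mul_zero, add_zero]
  have g22 : hf p₂ x₂ = 1 := by rw [hx₂, hf_add_right, hf_smul_right, hp2z₁, hp2p2, mul_zero, add_zero]
  have b11 : hf x₁ x₁ = 0 := by
    rw [hx₁]; simp only [hf_add_left, hf_add_right, hf_smul_left, hf_smul_right, hpp, hxp, hx]
    linear_combination key (hf x x) (hself x)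
  have b21' : hf z₁ x₁ = 0 := by
    rw [hz₁, hf_add_left, hf_smul_left, g11, mul_one, K.add_self]
  have b21 : hf x₂ x₁ = 0 := by rw [hx₂, hf_add_left, hf_smul_left, b21', g21, mul_zero, add_zero]
  have hz₁p₂ : hf z₁ p₂ = 1 := by rw [hf_symm, hp2z₁]; exact one_pow 2
  have b22 : hf x₂ x₂ = 0 := by
    rw [hx₂]; simp only [hf_add_left, hf_add_right, hf_smul_left, hf_smul_right, hp2p2, hz₁p₂, hp2z₁]
    linear_combination key (hf z₁ z₁) (hself z₁)
  have hfix : ∀ {u : Vec n}, N u = 0 → A.1.1 *ᵥ u = u := fun hu => by rw [happ, hu, add_zero]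
  obtain ⟨s, hs2, hs3⟩ := bad_products (A := A) (p₁ := p) (p₂ := p₂) (x₁ := x₁) (x₂ := x₂)
    (by rw [happ, hx₁, map_add, map_smul, hNp, smul_zero, add_zero])
    (by rw [happ, hx₂, hz₁, map_add, map_add, map_smul, map_smul, hNp, hNp₂, smul_zero, smul_zero, add_zero,
      add_zero])
    (hfix hNp) (hfix hNp₂) g11 g12 g21 g22
    (by simp [hpp, hpp2, hp2p, hp2p2]) (by simp [b11, b21, b22, hf_zero_symm b21])
  exact absurd (h3 s) (by rintro (h | h); exacts [hs2 h, hs3 h])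

/-- An invariant non-empty set of 3-transpositions is the set of transvections. -/
theorem class_eq {E : Set (SUn n)} (hs : Cfsg.IsThreeTranspositionSet E)
    (hconj : ∀ g, ∀ d ∈ E, g * d * g⁻¹ ∈ E) (hne : E.Nonempty) : E = {A | ∃ v, Iso v ∧ A = tEl v} := by
  have hle : ∀ A ∈ E, ∃ v, Iso v ∧ A = tEl v := fun A hA =>
    tEl_of_three (CfsgLib.ThreeTrans.mul_self hs hA) (CfsgLib.ThreeTrans.ne_one hs hA)
      fun s => hs.2 A hA _ (hconj s A hA)
  obtain ⟨A, hA⟩ := hne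
  obtain ⟨v, hv, rfl⟩ := hle A hA
  have step : ∀ {a b : Vec n}, Iso a → Iso b → hf a b ≠ 0 → tEl a ∈ E → tEl b ∈ E := by
    intro a b ha hb hab hmem
    have h1 : tv b a = tv b a := rfl
    have e : tEl (tv a (tv b a)) = tEl b := by
      have hba : hf b a = hf a b ^ 2 := hf_symm a b
      have : tv a (tv b a) = hf a b • b := by
        conv_lhs => rw [TwoRadicalSU.tv]
        rw [tv, hf_add_left, hf_smul_left, ha.2, zero_add, hba, K.cube _ hab, one_smul,
          add_comm a, add_assoc, vadd_self, add_zero]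
      rw [this, tEl_smul hb.2 hab]
    rw [← e, ← conj_tEl_tEl ha.2 (ha.tv hb.2).2, ← conj_tEl_tEl hb.2 ha.2]
    have h2 := hconj (tEl a) _ (hconj (tEl b) _ hmem)
    rwa [tEl_inv ha.2, tEl_inv hb.2] at h2
  refine Set.Subset.antisymm (fun A hA => hle A hA) ?_
  rintro _ ⟨u, hu, rfl⟩
  obtain ⟨y, hy, hvy, huy⟩ := exists_common_nonorth (q := 2) card_eq hv.1 hv.2 hu.1 hu.2
  have hy' : Iso y := ⟨fun e => hvy (by rw [e]; exact hf_zero_right v), hy⟩
  exact step hy' hu (fun e => huy (hf_zero_symm e)) (step hv hy' hvy hA)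

end CfsgLib.TwoRadicalSU
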