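import Cfsg.Agent.Lib.TwoRadicalSU.Quotient

/-!
# Reduction to the concrete field of four elements
-/

set_option autoImplicit false
set_option linter.unusedSectionVars false

namespace CfsgLib.TwoRadicalSU

open Cfsg CfsgLib.TwoRadical CfsgLib.ClassicalGroups Matrix

universe u

theorem su_congr_n {F : Type} [Field F] [Fintype F] (hF : Fintype.card F = 4) (n : ℕ) :
    Nonempty (Cfsg.SU n F 2 ≃* SUn n) := by
  obtain ⟨φ⟩ : Nonempty (GF4 ≃+* F) := ⟨FiniteField.ringEquivOfCardEq (by rw [GF4.card_four, hF])⟩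
  let f : SpecialLinearGroup (Fin n) GF4 ≃* SpecialLinearGroup (Fin n) F :=
    MonoidHom.toMulEquiv (SpecialLinearGroup.map φ.toRingHom) (SpecialLinearGroup.map φ.symm.toRingHom)
      (MonoidHom.ext fun g => Subtype.ext (Matrix.ext fun i j => φ.symm_apply_apply _))
      (MonoidHom.ext fun g => Subtype.ext (Matrix.ext fun i j => φ.apply_symm_apply _))
  have hherm : ∀ u v, φ (Cfsg.hermForm n GF4 2 u v) = Cfsg.hermForm n F 2 (φ ∘ u) (φ ∘ v) := fun u v => by
    simp [Cfsg.hermForm, map_sum, map_mul, map_pow]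
  have hmv : ∀ (g : SpecialLinearGroup (Fin n) GF4) (u : Fin n → GF4),
      (f g).1 *ᵥ (φ ∘ u) = φ ∘ (g.1 *ᵥ u) := fun g u => by
    funext i; exact (φ.toRingHom.map_mulVec g.1 u i).symm
  have hsurj : ∀ u : Fin n → F, ∃ u', φ ∘ u' = u := fun u => ⟨φ.symm ∘ u, by funext i; simp⟩
  have key : ∀ g, g ∈ Cfsg.SU n GF4 2 ↔ f g ∈ Cfsg.SU n F 2 := by
    intro g
    rw [CfsgLib.ClassicalGroups.mem_SU_iff, CfsgLib.ClassicalGroups.mem_SU_iff]
    constructor
    · intro h u v
      obtain ⟨u', rfl⟩ := hsurj u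
      obtain ⟨v', rfl⟩ := hsurj v
      rw [hmv, hmv, ← hherm, ← hherm, h]
    · intro h u v
      have := h (φ ∘ u) (φ ∘ v)
      rw [hmv, hmv, ← hherm, ← hherm] at this
      exact φ.injective this
  refine ⟨((f.subgroupMap (Cfsg.SU n GF4 2)).trans (MulEquiv.subgroupCongr ?_)).symm⟩
  ext x
  rw [Subgroup.mem_map]
  exact ⟨fun ⟨g, hg, hx⟩ => hx ▸ (key g).mp hg,
    fun hx => ⟨f.symm x, (key _).mpr (by rwa [f.apply_symm_apply]), f.apply_symm_apply x⟩⟩

theorem exists_setup {n : ℕ} (hn : 5 ≤ n) {G : Type u} [Group G] [Finite G] {D : Set G}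
    (hD : IsThreeTranspositionClass D) (hZ : Subgroup.center G = ⊥)
    (hq : ∃ (F : Type) (_ : Field F) (_ : Fintype F), Fintype.card F = 4 ∧
      Nonempty (G ⧸ pCore 2 G ≃* ↥(Cfsg.SU n F 2))) : Nonempty (Setup n G) := by
  obtain ⟨F, iF, iT, hF, ⟨e⟩⟩ := hq
  obtain ⟨e'⟩ := su_congr_n hF n
  let π : G →* SUn n := (e.trans e').toMonoidHom.comp (QuotientGroup.mk' (pCore 2 G))
  exact ⟨{ D := D, cls := hD, center := hZ, π := π
           surj := (e.trans e').surjective.comp (QuotientGroup.mk'_surjective _)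
           ker := by
             ext g
             show (e.trans e') (QuotientGroup.mk g) = 1 ↔ _
             rw [MulEquiv.map_eq_one_iff, QuotientGroup.eq_one_iff]
           big := hn }⟩

end CfsgLib.TwoRadicalSU
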