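import Cfsg.Agent.Lib.TwoRadicalSU.Orbit

/-!
# Isotropic vectors of `GF4^5`: each is a monomial point, or two monomial transvections away from a fixed
point of weight four
-/

set_option autoImplicit false
set_option maxRecDepth 100000

namespace CfsgLib.TwoRadicalSU.Five

open CfsgLib.TwoRadical

/-- Witness codes, `0` for anisotropic vectors. -/
def table : List (List ℕ) := [
  [0, 0, 0, 0, 0, 5026, 5212, 5398, 0, 5399, 5027, 5213, 0, 5214, 5400, 5028, 0, 4468, 4654, 4840, 3910, 0, 0, 0, 4096, 0, 0, 0, 4282, 0, 0, 0],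
  [0, 4841, 4469, 4655, 4283, 0, 0, 0, 3911, 0, 0, 0, 4097, 0, 0, 0, 0, 4656, 4842, 4470, 4098, 0, 0, 0, 4284, 0, 0, 0, 3912, 0, 0, 0],
  [0, 3352, 3538, 3724, 2794, 0, 0, 0, 2980, 0, 0, 0, 3166, 0, 0, 0, 2236, 0, 0, 0, 0, 3241, 3421, 3601, 0, 4903, 5083, 5263, 0, 4909, 5089, 5269],
  [2422, 0, 0, 0, 0, 4345, 4525, 4705, 0, 3614, 3254, 3434, 0, 4195, 2936, 2577, 2608, 0, 0, 0, 0, 4351, 4531, 4711, 0, 4015, 2396, 3117, 0, 3429, 3609, 3249],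
  [0, 3725, 3353, 3539, 3167, 0, 0, 0, 2795, 0, 0, 0, 2981, 0, 0, 0, 2609, 0, 0, 0, 0, 3247, 3427, 3607, 0, 4712, 4352, 4532, 0, 3115, 4016, 2397],
  [2237, 0, 0, 0, 0, 5270, 4910, 5090, 0, 3602, 3242, 3422, 0, 5264, 4904, 5084, 2423, 0, 0, 0, 0, 2575, 4196, 2937, 0, 4706, 4346, 4526, 0, 3435, 3615, 3255],
  [0, 3540, 3726, 3354, 2982, 0, 0, 0, 3168, 0, 0, 0, 2796, 0, 0, 0, 2424, 0, 0, 0, 0, 3253, 3433, 3613, 0, 2935, 2576, 4197, 0, 4527, 4707, 4347],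
  [2610, 0, 0, 0, 0, 2395, 3116, 4017, 0, 3608, 3248, 3428, 0, 4533, 4713, 4353, 2238, 0, 0, 0, 0, 5085, 5265, 4905, 0, 5091, 5271, 4911, 0, 3423, 3603, 3243],
  [0, 1678, 1864, 2050, 1120, 0, 0, 0, 1306, 0, 0, 0, 1492, 0, 0, 0, 562, 0, 0, 0, 0, 1621, 1801, 1981, 0, 4957, 5137, 5317, 0, 4963, 5143, 5323],
  [748, 0, 0, 0, 0, 4399, 4579, 4759, 0, 1988, 1628, 1808, 0, 3453, 3633, 3273, 934, 0, 0, 0, 0, 4405, 4585, 4765, 0, 3626, 3266, 3446, 0, 1815, 1995, 1635],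
  [4, 0, 0, 0, 0, 4321, 4501, 4681, 0, 4993, 5173, 5353, 0, 4999, 5179, 5359, 0, 4861, 5041, 5221, 1, 0, 0, 0, 908, 0, 0, 0, 2349, 0, 0, 0],
  [0, 4459, 4639, 4819, 1448, 0, 0, 0, 3093, 0, 0, 0, 4141, 0, 0, 0, 0, 4453, 4633, 4813, 2889, 0, 0, 0, 3961, 0, 0, 0, 2906, 0, 0, 0],
  [190, 0, 0, 0, 0, 3325, 3505, 3685, 0, 2006, 1646, 1826, 0, 4515, 4695, 4335, 0, 3343, 3523, 3703, 1466, 0, 0, 0, 4155, 0, 0, 0, 1441, 0, 0, 0],
  [0, 2024, 1664, 1844, 3975, 0, 0, 0, 2036, 0, 0, 0, 2882, 0, 0, 0, 0, 5055, 5235, 4875, 901, 0, 0, 0, 2342, 0, 0, 0, 183, 0, 0, 0],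
  [376, 0, 0, 0, 0, 3319, 3499, 3679, 0, 4688, 4328, 4508, 0, 1833, 2013, 1653, 0, 3337, 3517, 3697, 3987, 0, 0, 0, 1261, 0, 0, 0, 3968, 0, 0, 0],
  [0, 5228, 4868, 5048, 721, 0, 0, 0, 362, 0, 0, 0, 2523, 0, 0, 0, 0, 1851, 2031, 1671, 4148, 0, 0, 0, 3063, 0, 0, 0, 1857, 0, 0, 0],
  [0, 2051, 1679, 1865, 1493, 0, 0, 0, 1121, 0, 0, 0, 1307, 0, 0, 0, 935, 0, 0, 0, 0, 1633, 1813, 1993, 0, 4766, 4406, 4586, 0, 3447, 3627, 3267],
  [563, 0, 0, 0, 0, 5324, 4964, 5144, 0, 1982, 1622, 1802, 0, 5318, 4958, 5138, 749, 0, 0, 0, 0, 3271, 3451, 3631, 0, 4760, 4400, 4580, 0, 1809, 1989, 1629],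
  [377, 0, 0, 0, 0, 1651, 1831, 2011, 0, 3680, 3320, 3500, 0, 4509, 4689, 4329, 0, 1669, 1849, 2029, 1855, 0, 0, 0, 4149, 0, 0, 0, 3061, 0, 0, 0],
  [0, 3698, 3338, 3518, 3969, 0, 0, 0, 3985, 0, 0, 0, 1262, 0, 0, 0, 0, 5049, 5229, 4869, 2521, 0, 0, 0, 722, 0, 0, 0, 363, 0, 0, 0],
  [5, 0, 0, 0, 0, 5360, 5000, 5180, 0, 4682, 4322, 4502, 0, 5354, 4994, 5174, 0, 4814, 4454, 4634, 2907, 0, 0, 0, 2887, 0, 0, 0, 3962, 0, 0, 0],
  [0, 5222, 4862, 5042, 2347, 0, 0, 0, 2, 0, 0, 0, 909, 0, 0, 0, 0, 4820, 4460, 4640, 4142, 0, 0, 0, 1449, 0, 0, 0, 3091, 0, 0, 0],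
  [191, 0, 0, 0, 0, 4333, 4513, 4693, 0, 3686, 3326, 3506, 0, 1827, 2007, 1647, 0, 4873, 5053, 5233, 181, 0, 0, 0, 902, 0, 0, 0, 2343, 0, 0, 0],
  [0, 3704, 3344, 3524, 1442, 0, 0, 0, 1467, 0, 0, 0, 4153, 0, 0, 0, 0, 1845, 2025, 1665, 2883, 0, 0, 0, 3973, 0, 0, 0, 2037, 0, 0, 0],
  [0, 1866, 2052, 1680, 1308, 0, 0, 0, 1494, 0, 0, 0, 1122, 0, 0, 0, 750, 0, 0, 0, 0, 1627, 1807, 1987, 0, 3632, 3272, 3452, 0, 4581, 4761, 4401],
  [936, 0, 0, 0, 0, 3265, 3445, 3625, 0, 1994, 1634, 1814, 0, 4587, 4767, 4407, 564, 0, 0, 0, 0, 5139, 5319, 4959, 0, 5145, 5325, 4965, 0, 1803, 1983, 1623],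
  [192, 0, 0, 0, 0, 1645, 1825, 2005, 0, 4694, 4334, 4514, 0, 3507, 3687, 3327, 0, 1663, 1843, 2023, 2035, 0, 0, 0, 2881, 0, 0, 0, 3974, 0, 0, 0],
  [0, 5234, 4874, 5054, 2341, 0, 0, 0, 182, 0, 0, 0, 903, 0, 0, 0, 0, 3525, 3705, 3345, 4154, 0, 0, 0, 1443, 0, 0, 0, 1465, 0, 0, 0],
  [378, 0, 0, 0, 0, 4327, 4507, 4687, 0, 2012, 1652, 1832, 0, 3501, 3681, 3321, 0, 4867, 5047, 5227, 361, 0, 0, 0, 2522, 0, 0, 0, 723, 0, 0, 0],
  [0, 2030, 1670, 1850, 3062, 0, 0, 0, 1856, 0, 0, 0, 4147, 0, 0, 0, 0, 3519, 3699, 3339, 1263, 0, 0, 0, 3967, 0, 0, 0, 3986, 0, 0, 0],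
  [6, 0, 0, 0, 0, 5175, 5355, 4995, 0, 5181, 5361, 5001, 0, 4503, 4683, 4323, 0, 4641, 4821, 4461, 3092, 0, 0, 0, 4143, 0, 0, 0, 1447, 0, 0, 0],
  [0, 4635, 4815, 4455, 3963, 0, 0, 0, 2905, 0, 0, 0, 2888, 0, 0, 0, 0, 5043, 5223, 4863, 907, 0, 0, 0, 2348, 0, 0, 0, 3, 0, 0, 0]]

/-- The field element with a code. -/
def el (k : ℕ) : GF4 := if k = 1 then 1 else if k = 2 then GF4.w else if k = 3 then GF4.w ^ 2 else 0

/-- The thirty monomial points. -/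
def pts : List (Fin 5 × Fin 5 × GF4) :=
  [(0, 1), (0, 2), (0, 3), (0, 4), (1, 2), (1, 3), (1, 4), (2, 3), (2, 4), (3, 4)].flatMap
    fun p => [(p.1, p.2, el 1), (p.1, p.2, el 2), (p.1, p.2, el 3)]

/-- A monomial transvection on coordinates. -/
def mv (p : Fin 5 × Fin 5 × GF4) (x : Fin 5 → GF4) : Fin 5 → GF4 := fun k =>
  if k = p.1 then p.2.2 * p.2.2 * x p.2.1 else if k = p.2.1 then p.2.2 * x p.1 else x k

/-- A monomial point. -/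
def pt (p : Fin 5 × Fin 5 × GF4) : Fin 5 → GF4 := fun k => if k = p.1 then 1 else if k = p.2.1 then p.2.2 else 0

/-- The standard point of weight four. -/
def base : Fin 5 → GF4 := fun k => if k = 4 then 0 else 1

/-- A witnessed description of a vector. -/
def check (c : ℕ) (v : Fin 5 → GF4) : Bool :=
  let n := (table.getD (c / 32) []).getD (c % 32) 0
  if n = 0 then decide (¬ (v 0 * (v 0 * v 0) + v 1 * (v 1 * v 1) + v 2 * (v 2 * v 2) + v 3 * (v 3 * v 3) +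
    v 4 * (v 4 * v 4) = 0)) || decide (∀ k, v k = 0) else
  let s := el (1 + (n - 1) % 3)
  let m := (n - 1) / 3
  let p := pts.getD (m / 2 % 30) (0, 1, 1)
  let q := pts.getD (m / 60) (0, 1, 1)
  decide (p.1 ≠ p.2.1 ∧ p.2.2 ≠ 0 ∧ q.1 ≠ q.2.1 ∧ q.2.2 ≠ 0 ∧ s ≠ 0 ∧
    ∀ k, v k = s * (if m % 2 = 1 then pt p k else mv p (mv q base) k))

theorem check_all : ∀ a b c d e : Fin 4,
    check (256 * a.1 + 64 * b.1 + 16 * c.1 + 4 * d.1 + e.1) ![el a, el b, el c, el d, el e] = true := by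
  decide +kernel

theorem el_surj : ∀ x : GF4, ∃ a : Fin 4, el a = x := by decide +kernel

theorem pt_eq (p : Fin 5 × Fin 5 × GF4) (h : p.1 ≠ p.2.1) (k : Fin 5) : pt p k = pv p.1 p.2.1 p.2.2 k := by
  obtain ⟨i, j, a⟩ := p
  show (if k = i then 1 else if k = j then a else 0) = pv i j a k
  by_cases hi : k = i
  · rw [if_pos hi, hi, pv_left h]
  · by_cases hj : k = j
    · rw [if_neg hi, if_pos hj, hj, pv_right h]
    · rw [if_neg hi, if_neg hj, pv_other hi hj]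

/-- Each isotropic vector is witnessed. -/
theorem witness (v : Vec 5) (hv : Iso v) : ∃ (p q : Fin 5 × Fin 5 × GF4) (s : GF4), s ≠ 0 ∧ p.1 ≠ p.2.1 ∧
    p.2.2 ≠ 0 ∧ q.1 ≠ q.2.1 ∧ q.2.2 ≠ 0 ∧ (v = s • pv p.1 p.2.1 p.2.2 ∨
      v = s • tv (pv p.1 p.2.1 p.2.2) (tv (pv q.1 q.2.1 q.2.2) base)) := by
  obtain ⟨a, ha⟩ := el_surj (v 0)
  obtain ⟨b, hb⟩ := el_surj (v 1)
  obtain ⟨c, hc⟩ := el_surj (v 2)
  obtain ⟨d, hd⟩ := el_surj (v 3)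
  obtain ⟨e, he⟩ := el_surj (v 4)
  have hv' : v = ![el a, el b, el c, el d, el e] := funext fun k => by
    fin_cases k
    exacts [ha.symm, hb.symm, hc.symm, hd.symm, he.symm]
  have h := check_all a b c d e
  rw [← hv', check] at h
  have hnot : ¬ (v 0 * (v 0 * v 0) + v 1 * (v 1 * v 1) + v 2 * (v 2 * v 2) + v 3 * (v 3 * v 3) +
      v 4 * (v 4 * v 4) ≠ 0) := by
    intro hn
    apply hn
    have := hv.2
    rw [show hf v v = ∑ k, v k * v k ^ 2 from rfl, Fin.sum_univ_five] at this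
    simpa only [pow_two] using this
  have hne : ¬ ∀ k, v k = 0 := fun h0 => hv.1 (funext h0)
  simp only [ne_eq] at hnot
  split_ifs at h with h0
  · simp [hnot, hne] at h
  obtain ⟨h1, h2, h3, h4, h5, h6⟩ := of_decide_eq_true h
  refine ⟨_, _, _, h5, h1, h2, h3, h4, ?_⟩
  split_ifs at h6 with hk
  · refine Or.inl (funext fun k => (h6 k).trans ?_)
    rw [Pi.smul_apply, smul_eq_mul, pt_eq _ h1]
  · refine Or.inr (funext fun k => (h6 k).trans ?_)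
    rw [Pi.smul_apply, smul_eq_mul]
    congr 1
    simp only [mv, tv_pv h1 h2, tv_pv h3 h4, pow_two]

/-- A monomial transvection maps monomial points to monomial points. -/
theorem pv_tv {p q : Fin 5 × Fin 5 × GF4} (hp : p.1 ≠ p.2.1) (hpa : p.2.2 ≠ 0) (hq : q.1 ≠ q.2.1)
    (hqa : q.2.2 ≠ 0) : ∃ (i j : Fin 5) (a t : GF4), i ≠ j ∧ a ≠ 0 ∧ t ≠ 0 ∧
      tv (pv p.1 p.2.1 p.2.2) (pv q.1 q.2.1 q.2.2) = t • pv i j a := by
  obtain ⟨i, j, a⟩ := p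
  obtain ⟨k, l, b⟩ := q
  dsimp only at *
  let π : Fin 5 → Fin 5 := fun m => if m = i then j else if m = j then i else m
  let s : Fin 5 → GF4 := fun m => if m = i then a else if m = j then a ^ 2 else 1
  have hs : ∀ m, s m ≠ 0 := fun m => by
    simp only [s]; split_ifs
    exacts [hpa, pow_ne_zero 2 hpa, one_ne_zero]
  have hsingle : ∀ m, tv (pv i j a) (Pi.single m 1) = s m • Pi.single (π m) 1 := by
    intro m
    funext r
    rw [tv_pv hp hpa, Pi.smul_apply, smul_eq_mul]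
    simp only [s, π, Pi.single_apply]
    by_cases hmi : m = i
    · subst hmi; by_cases h1 : r = m <;> by_cases h2 : r = j <;> simp_all [Ne.symm hp]
    by_cases hmj : m = j
    · subst hmj; by_cases h1 : r = i <;> by_cases h2 : r = m <;> simp_all [Ne.symm hp]
    by_cases h1 : r = i <;> by_cases h2 : r = j <;> by_cases h3 : r = m <;> simp_all [Ne.symm hmi, Ne.symm hmj]
  have hinj : π k ≠ π l := by
    intro e
    apply hq
    simp only [π] at e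
    split_ifs at e <;> simp_all
  refine ⟨π k, π l, (s k)⁻¹ * (b * s l), s k, hinj, mul_ne_zero (inv_ne_zero (hs k)) (mul_ne_zero hqa (hs l)),
    hs k, ?_⟩
  have e : tv (pv i j a) (pv k l b) = tv (pv i j a) (Pi.single k 1) + b • tv (pv i j a) (Pi.single l 1) := by
    rw [← tv_apply_smul]
    simp only [tv, pv, hf_add_left, add_smul]
    abel
  rw [e, hsingle, hsingle, pv, smul_add, smul_smul, smul_smul, ← mul_assoc (s k), mul_inv_cancel₀ (hs k), one_mul]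

end CfsgLib.TwoRadicalSU.Five
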