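import Cfsg.Agent.Lib.TwoRadicalSU.Quotient
import Cfsg.Agent.Lib.TwoRadicalSU.FiveTable

/-!
# A complement to the 2-radical when the quotient is `SU(5,2)`
-/

set_option autoImplicit false
set_option linter.unusedSectionVars false

namespace CfsgLib.TwoRadicalSU

open Cfsg CfsgLib.TwoRadical CfsgLib.ClassicalGroups CfsgLib.ThreeTrans Matrix

universe u

theorem base_eq : Five.base = (Frame.std (n := 5) le_rfl (by decide)).x₀ := by
  funext k
  fin_cases k <;> simp [Five.base, Frame.x₀, Frame.std, ind, Frame.S₄]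

namespace Setup

section General

variable {n : ℕ} {G : Type u} [Group G] [Finite G] (S : Setup n G) (I : Frame n)

theorem monomial_conj {i j : Fin n} (hij : i ≠ j) {a : GF4} (ha : a ≠ 0) {t : SUn n} (ht : t ∈ diag n) :
    tEl (pv i j a) * t * tEl (pv i j a) ∈ diag n := by
  have hu := iso_pv hij ha
  intro k
  obtain ⟨l, c, hc, hl⟩ : ∃ (l : Fin n) (c : GF4), c ≠ 0 ∧
      tv (pv i j a) (Pi.single k 1) = c • Pi.single l 1 := by
    by_cases hki : k = i
    · subst hki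
      refine ⟨j, a, ha, funext fun m => ?_⟩
      rw [tv_pv hij ha, Pi.smul_apply, smul_eq_mul]
      by_cases h1 : m = k
      · subst h1; simp [hij, hij.symm]
      · by_cases h2 : m = j <;> simp [h1, h2, hij.symm]
    by_cases hkj : k = j
    · subst hkj
      refine ⟨i, a ^ 2, pow_ne_zero 2 ha, funext fun m => ?_⟩
      rw [tv_pv hij ha, Pi.smul_apply, smul_eq_mul]
      by_cases h1 : m = i
      · subst h1; simp [hki, Ne.symm hki]
      · by_cases h2 : m = k <;> simp [h1, h2, hij, hki, Ne.symm hki]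
    · refine ⟨k, 1, one_ne_zero, ?_⟩
      rw [one_smul]
      exact tv_perp (by rw [hf_pv, Pi.single_eq_of_ne (Ne.symm hki), Pi.single_eq_of_ne (Ne.symm hkj)]; simp)
  obtain ⟨b, hb⟩ := ht l
  refine ⟨b, ?_⟩
  rw [SU_mul_mulVec, SU_mul_mulVec, tEl_apply hu.2, tEl_apply hu.2, hl, Matrix.mulVec_smul, hb, tv_apply_smul,
    tv_apply_smul]
  have h2 : Pi.single k 1 = c • tv (pv i j a) (Pi.single l (1 : GF4)) := by
    rw [← tv_apply_smul, ← hl, tv_tv hu.2]
  rw [smul_smul, mul_comm, ← smul_smul, ← h2]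

/-- A member over `v` centralised by the elements of `M₀` fixing that point. -/
def Nice (M₀ : Subgroup G) (v : Vec n) (d : G) : Prop :=
  d ∈ S.D ∧ S.π d = tEl v ∧ ∀ m ∈ M₀, (∃ c : GF4, c ≠ 0 ∧ (S.π m).1.1 *ᵥ v = c • v) → Commute d m

variable {M₀ : Subgroup G} (hodd : Odd (Nat.card M₀)) (hdiag : ∀ m ∈ M₀, S.π m ∈ diag n)
  (hinj : ∀ m ∈ M₀, m ∈ pCore 2 G → m = 1) (hsur : ∀ t ∈ diag n, ∃ m ∈ M₀, S.π m = t)

include I hsur in
theorem exists_U {i j : Fin n} (h : i ≠ j) : ∃ m ∈ M₀, (∀ y, S.act m y = S.umod.U i j y) ∧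
    ∀ x, (S.π m).1.1 *ᵥ x = tv (pv i j (GF4.w ^ 2)) (tv (pv i j 1) x) := by
  obtain ⟨m, hm, hmt⟩ := hsur _ (dv_mem_diag h)
  refine ⟨m, hm, fun y => ?_, fun x => ?_⟩
  · obtain ⟨q, hq⟩ : ∃ q, q = S.lift (pv i j (GF4.w ^ 2)) * S.lift (pv i j 1) := ⟨_, rfl⟩
    rw [UMod.U_apply, UMod.r, UMod.r, tau_eq, tau_eq, ← act_mul]
    exact S.act_congr I (by
      rw [hmt, map_mul, S.lift_img (iso_pv h K.w_ne.2.2.2.2), S.lift_img (iso_pv h one_ne_zero)]) y
  · rw [hmt, SU_mul_mulVec, tEl_apply (iso_pv h one_ne_zero).2, tEl_apply (iso_pv h K.w_ne.2.2.2.2).2]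

include I hsur in
/-- Nothing in the whole module is fixed by the elements fixing a monomial point. -/
theorem free_pv {i j : Fin n} (hij : i ≠ j) {a : GF4} (ha : a ≠ 0) (y : S.Mo)
    (h : ∀ m ∈ M₀, (∃ c : GF4, c ≠ 0 ∧ (S.π m).1.1 *ᵥ pv i j a = c • pv i j a) → S.act m y = y) : y = 0 := by
  obtain ⟨f, rfl⟩ := (S.umod.Ψ_bijective I).2 y
  have key : ∀ k, k ≠ i → k ≠ j → f i = 0 ∧ f j = 0 ∧ f k = 0 := by
    intro k hki hkj
    obtain ⟨m1, hm1, ha1, hx1⟩ := S.exists_U I hsur hki.symm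
    obtain ⟨m2, hm2, ha2, hx2⟩ := S.exists_U I hsur hkj.symm
    have e := h (m1 * m2) (mul_mem hm1 hm2) ⟨GF4.w, K.w_ne.1, funext fun l => ?_⟩
    · rw [act_mul, ha2, ha1, S.umod.U_Ψ I hkj.symm, S.umod.U_Ψ I hki.symm] at e
      have e' := (S.umod.Ψ_bijective I).1 e
      have hi := congrFun e' i
      have hj := congrFun e' j
      have hk := congrFun e' k
      simp only [if_pos, if_neg hij, if_neg hki.symm, if_neg hij.symm, if_neg hkj.symm, if_neg hki, if_neg hkj,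
        ← UMod.sm_mul, show GF4.w ^ 2 * GF4.w ^ 2 = GF4.w by decide +kernel] at hi hj hk
      exact ⟨S.umod.sm_w_fpf I hi, S.umod.sm_w_fpf I hj, S.umod.sm_w_fpf I hk⟩
    · rw [map_mul, SU_mul_mulVec, hx2, hx1, dv_apply hki.symm, dv_apply hkj.symm, dv_apply hkj.symm,
        dv_apply hkj.symm, Pi.smul_apply, smul_eq_mul]
      by_cases hli : l = i
      · simp [hli, hij, hki.symm, pv_left hij]
      by_cases hlk : l = k
      · subst hlk; simp [pv_other hki hkj, hki, hkj]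
      by_cases hlj : l = j
      · simp [hlj, hij.symm, hkj.symm, pv_right hij]
      simp [hli, hlj, hlk, pv_other hli hlj]
  have h0 : f = 0 := funext fun l => by
    obtain ⟨k, hki, hkj, -⟩ := S.umod.exists_off' I i j j
    by_cases hli : l = i
    · rw [hli]; exact (key k hki hkj).1
    by_cases hlj : l = j
    · rw [hlj]; exact (key k hki hkj).2.1
    exact (key l hli hlj).2.2
  rw [h0, map_zero]

include I hsur in
theorem free_x₀ (y : S.Mo) (hy : y ∈ S.umod.A I.x₀)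
    (h : ∀ m ∈ M₀, (∃ c : GF4, c ≠ 0 ∧ (S.π m).1.1 *ᵥ I.x₀ = c • I.x₀) → S.act m y = y) : y = 0 := by
  obtain ⟨m1, hm1, ha1, hx1⟩ := S.exists_U I hsur I.ae
  obtain ⟨m2, hm2, ha2, hx2⟩ := S.exists_U I hsur I.be
  obtain ⟨m3, hm3, ha3, hx3⟩ := S.exists_U I hsur I.ce
  obtain ⟨m4, hm4, ha4, hx4⟩ := S.exists_U I hsur I.de
  have e := h (m1 * (m2 * (m3 * m4))) (mul_mem hm1 (mul_mem hm2 (mul_mem hm3 hm4)))
    ⟨GF4.w, K.w_ne.1, funext fun l => ?_⟩
  · rw [act_mul, act_mul, act_mul, ha4, ha3, ha2, ha1] at e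
    refine S.umod.A_fix_zero (iso_pv I.ab K.w_ne.1) I.iso_x₀ ?_ hy
      (S.umod.r_fix_of_U I.ab (S.umod.fix_U_of_z I e) K.w_ne.1)
    rw [hf_pv, Frame.x₀, ind, ind, if_pos (I.mem_S₄.2 (Or.inl rfl)),
      if_pos (I.mem_S₄.2 (Or.inr (Or.inl rfl)))]
    decide +kernel
  · simp only [map_mul, SU_mul_mulVec, hx4, hx3, hx2, hx1, dv_apply I.ae, dv_apply I.be, dv_apply I.ce,
      dv_apply I.de, Pi.smul_apply, smul_eq_mul]
    by_cases h : l = I.e
    · subst h; simp [I.ae.symm, I.be.symm, I.ce.symm, I.de.symm, I.x₀_e, Frame.x₀, ind, I.mem_S₄]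
    by_cases ha : l = I.a
    · subst ha; simp [I.ab, I.ac, I.ad, I.ae]
    by_cases hb : l = I.b
    · subst hb; simp [I.ab.symm, I.bc, I.bd, I.be]
    by_cases hc : l = I.c
    · subst hc; simp [I.ac.symm, I.bc.symm, I.cd, I.ce]
    by_cases hd : l = I.d
    · subst hd; simp [I.ad.symm, I.bd.symm, I.cd.symm, I.de]
    simp [h, ha, hb, hc, hd, Frame.x₀, ind, I.mem_S₄]

include hodd in
/-- A fibre which is a single orbit of the radical has a member centralised by the stabiliser. -/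
theorem exists_nice {v : Vec n} (hv : Iso v)
    (hA : ∀ y ∈ S.umod.A v, ∃ z, y = z + S.umod.tau v z) : ∃ d, S.Nice M₀ v d := by
  classical
  set d := S.lift v with hd'
  have hd : d ∈ S.D := S.lift_mem hv
  let C : Subgroup G :=
    { carrier := {m | m ∈ M₀ ∧ S.π m * tEl v * (S.π m)⁻¹ = tEl v}
      one_mem' := ⟨one_mem _, by rw [map_one, one_mul, inv_one, mul_one]⟩
      mul_mem' := fun {a b} ha hb => ⟨mul_mem ha.1 hb.1, by
        rw [map_mul, _root_.mul_inv_rev, show S.π a * S.π b * tEl v * ((S.π b)⁻¹ * (S.π a)⁻¹) =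
          S.π a * (S.π b * tEl v * (S.π b)⁻¹) * (S.π a)⁻¹ by group, hb.2, ha.2]⟩
      inv_mem' := fun {a} ha => ⟨inv_mem ha.1, by
        conv_lhs => rw [← ha.2]
        rw [map_inv]; group⟩ }
  have hCle : C ≤ M₀ := fun m hm => hm.1
  have hCodd : Odd (Nat.card C) := hodd.of_dvd_nat (Subgroup.card_dvd_of_le hCle)
  haveI := Fintype.ofFinite C
  have hβA : ∀ m : C, d * ((m : G) * d * (m : G)⁻¹) ∈ S.A v := fun m =>
    S.mul_mem_A hd (S.closed.conj _ d hd) (S.lift_img hv)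
      (by rw [map_mul, map_mul, map_inv, S.lift_img hv, m.2.2])
  set β : C → S.Mo := fun m => Additive.ofMul ⟨_, S.A_le_R hv (hβA m)⟩ with hβ
  have hcoc : ∀ a b : C, β (a * b) = β a + S.act (a : G) (β b) := fun a b => S.val_inj (by
    rw [val_add, val_act]
    show d * ((a : G) * b * d * ((a : G) * b)⁻¹) = d * ((a : G) * d * (a : G)⁻¹) * ((a : G) * (d * ((b : G) * d * (b : G)⁻¹)) * (a : G)⁻¹)
    simp [mul_assoc, mul_self_mul S.cls.1 hd])
  set T := ∑ m, β m with hT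
  have hTA : T ∈ S.umod.A v := AddSubgroup.sum_mem _ fun m _ => hβA m
  have hself : ∀ x : S.Mo, x + x = 0 := S.umod.add_self
  have hcard : ∀ x : S.Mo, Fintype.card C • x = x := fun x => by
    rw [Nat.card_eq_fintype_card] at hCodd
    obtain ⟨k, hk⟩ := hCodd
    rw [hk, succ_nsmul, mul_nsmul', two_nsmul, ← nsmul_add, hself, smul_zero, zero_add]
  have hsum : ∀ m : C, T = β m + S.act (m : G) T := fun m => by
    have : ∑ b, β (m * b) = T := Fintype.sum_equiv (Equiv.mulLeft m) _ β fun b => rfl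
    simp only [hcoc, Finset.sum_add_distrib, Finset.sum_const, Finset.card_univ, hcard, ← map_sum] at this
    exact this.symm
  obtain ⟨z, hz⟩ := hA T hTA
  set y := S.val z with hy
  have hyR := S.val_mem z
  have hyi : y⁻¹ = y := inv_eq_of_mul_eq_one_right (S.R_sq hyR)
  have hdT : d * S.val T = y * d * y⁻¹ := by
    have e : S.val T = y * (d * y * d⁻¹) := by rw [hz, val_add, tau_eq, val_act]
    have hc : Commute d (S.val T) := S.A_fixed hv hv hv.2 hd (S.lift_img hv) hTA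
    rw [hc.eq, e, hyi]
    simp [mul_assoc, inv_eq S.cls.1 hd, mul_self S.cls.1 hd]
  have hπ : S.π (d * S.val T) = tEl v := by
    rw [map_mul, (S.mem_pCore_iff).1 (S.R_le (S.val_mem T)), mul_one, S.lift_img hv]
  refine ⟨d * S.val T, hdT ▸ S.closed.conj y d hd, hπ, fun m hm hfix => ?_⟩
  obtain ⟨c, hc, hmv⟩ := hfix
  have hmC : m ∈ C := ⟨hm, by rw [conj_tEl _ hv.2, hmv, tEl_smul hv.2 hc]⟩
  have h := congrArg S.val (hsum ⟨m, hmC⟩)
  rw [val_add, val_act] at h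
  have h' : S.val T = d * (m * d * m⁻¹) * (m * S.val T * m⁻¹) := h
  show d * S.val T * m = m * (d * S.val T)
  conv_lhs => rw [h']
  simp [mul_assoc, mul_self_mul S.cls.1 hd]

theorem Nice.smul {v : Vec n} (hv : Iso v) {d : G} (h : S.Nice M₀ v d) {s : GF4} (hs : s ≠ 0) :
    S.Nice M₀ (s • v) d := by
  refine ⟨h.1, h.2.1.trans (tEl_smul hv.2 hs).symm, fun m hm ⟨c, hc, hmv⟩ => h.2.2 m hm ⟨c, hc, ?_⟩⟩
  rw [Matrix.mulVec_smul, smul_comm] at hmv
  exact smul_right_injective _ hs hmv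

theorem nice_unique_of_free {v : Vec n} (hv : Iso v)
    (free : ∀ y ∈ S.umod.A v, (∀ m ∈ M₀, (∃ c : GF4, c ≠ 0 ∧ (S.π m).1.1 *ᵥ v = c • v) → S.act m y = y) → y = 0)
    {d d' : G} (h : S.Nice M₀ v d) (h' : S.Nice M₀ v d') : d = d' := by
  have hA := S.mul_mem_A h.1 h'.1 h.2.1 h'.2.1
  have := free (Additive.ofMul ⟨_, S.A_le_R hv hA⟩) hA fun m hm hfix => S.val_inj (by
    rw [val_act]
    show m * (d * d') * m⁻¹ = d * d'
    rw [(((h.2.2 m hm hfix).mul_left (h'.2.2 m hm hfix))).symm.eq, mul_inv_cancel_right])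
  exact (mul_eq_one_iff_eq' S.cls.1 h'.1).1 (congrArg S.val this)

include I hodd hdiag hinj hsur in
theorem nice_normalizes {i j : Fin n} (hij : i ≠ j) {a : GF4} (ha : a ≠ 0) {d : G}
    (h : S.Nice M₀ (pv i j a) d) : ∀ m ∈ M₀, d * m * d ∈ M₀ := by
  classical
  have hd := h.1
  haveI := Fintype.ofFinite M₀
  have hex : ∀ m : M₀, ∃ m' : M₀, S.π (m' : G) = S.π (d * m * d) := fun m => by
    obtain ⟨m', hm', he⟩ := hsur _ (monomial_conj hij ha (hdiag m m.2))
    exact ⟨⟨m', hm'⟩, by rw [map_mul, map_mul, h.2.1, he]⟩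
  choose φ hφ using hex
  have hφm : ∀ x y : M₀, φ (x * y) = φ x * φ y := fun x y => by
    refine Subtype.ext (inv_mul_eq_one.1 (hinj _ (mul_mem (inv_mem (φ (x * y)).2) (φ x * φ y).2) ?_))
    rw [S.mem_pCore_iff]
    simp only [map_mul, map_inv, hφ, Subgroup.coe_mul]
    have e : S.π d * S.π d = 1 := by rw [← map_mul, mul_self S.cls.1 hd, map_one]
    rw [inv_mul_eq_one]
    simp only [mul_assoc]
    rw [← mul_assoc (S.π d) (S.π d), e, one_mul]
  have hδR : ∀ m : M₀, d * (m : G) * d * (φ m : G)⁻¹ ∈ S.R := fun m => by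
    rw [← S.radical_eq I, S.mem_pCore_iff, map_mul, map_inv, hφ, mul_inv_cancel]
  set δ : M₀ → S.Mo := fun m => Additive.ofMul ⟨_, hδR m⟩ with hδ
  have hcoc : ∀ x y : M₀, δ (x * y) = δ x + S.act (φ x : G) (δ y) := fun x y => S.val_inj (by
    rw [val_add, val_act]
    show d * ((x : G) * y) * d * (φ (x * y) : G)⁻¹ =
      d * x * d * (φ x : G)⁻¹ * ((φ x : G) * (d * y * d * (φ y : G)⁻¹) * (φ x : G)⁻¹)
    rw [hφm, Subgroup.coe_mul]
    simp [mul_assoc, mul_self_mul S.cls.1 hd])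
  have hself : ∀ x : S.Mo, x + x = 0 := S.umod.add_self
  have hcard : ∀ x : S.Mo, Fintype.card M₀ • x = x := fun x => by
    rw [Nat.card_eq_fintype_card] at hodd
    obtain ⟨k, hk⟩ := hodd
    rw [hk, succ_nsmul, mul_nsmul', two_nsmul, ← nsmul_add, hself, smul_zero, zero_add]
  set T := ∑ m, δ m with hT
  have hsum : ∀ m : M₀, T = δ m + S.act (φ m : G) T := fun m => by
    have : ∑ b, δ (m * b) = T := Fintype.sum_equiv (Equiv.mulLeft m) _ δ fun b => rfl
    simp only [hcoc, Finset.sum_add_distrib, Finset.sum_const, Finset.card_univ, hcard, ← map_sum] at this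
    exact this.symm
  have hT0 : T = 0 := S.free_pv I hsur hij ha T fun m hm hfix => by
    have hdm : d * m * d = m := by rw [(h.2.2 m hm hfix).eq, mul_assoc, mul_self S.cls.1 hd, mul_one]
    have hφm' : (φ ⟨m, hm⟩ : G) = m := (inv_mul_eq_one.1 (hinj _ (mul_mem (inv_mem (φ ⟨m, hm⟩).2) hm)
      (by rw [S.mem_pCore_iff, map_mul, map_inv, hφ]; simp [hdm])))
    have h0 : δ ⟨m, hm⟩ = 0 := S.val_inj (by
      show d * m * d * (φ ⟨m, hm⟩ : G)⁻¹ = 1
      rw [hdm, hφm', mul_inv_cancel])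
    have := hsum ⟨m, hm⟩
    rw [h0, zero_add, hφm'] at this
    exact this.symm
  intro m hm
  have h0 := hsum ⟨m, hm⟩
  rw [hT0, map_zero, add_zero] at h0
  have : d * m * d * (φ ⟨m, hm⟩ : G)⁻¹ = 1 := congrArg S.val h0.symm
  rw [mul_inv_eq_one] at this
  rw [this]
  exact (φ ⟨m, hm⟩).2

include I hodd hdiag hinj hsur in
theorem Nice.move {i j : Fin n} (hij : i ≠ j) {a : GF4} (ha : a ≠ 0) {d : G} (h : S.Nice M₀ (pv i j a) d)
    {v : Vec n} (hv : Iso v) {e : G} (he : S.Nice M₀ v e) : S.Nice M₀ (tv (pv i j a) v) (d * e * d) := by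
  have hu := iso_pv hij ha
  obtain ⟨hm, hp⟩ := S.conj_member h.1 he.1 hu hv h.2.1 he.2.1
  refine ⟨hm, hp, fun m hm' ⟨c, hc, hmv⟩ => ?_⟩
  have hmem := S.nice_normalizes I hodd hdiag hinj hsur hij ha h m hm'
  have hcom : Commute e (d * m * d) := he.2.2 _ hmem ⟨c, hc, by
    rw [map_mul, map_mul, h.2.1, SU_mul_mulVec, SU_mul_mulVec, tEl_apply hu.2, tEl_apply hu.2, hmv,
      tv_apply_smul, tv_tv hu.2]⟩
  have := (Commute.conj_iff d).2 hcom
  rw [inv_eq S.cls.1 h.1] at this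
  rwa [show d * (d * m * d) * d = m by simp [mul_assoc, mul_self_mul S.cls.1 h.1, mul_self S.cls.1 h.1]] at this

include I hodd in
theorem exists_nice_pv {i j : Fin n} (hij : i ≠ j) {a : GF4} (ha : a ≠ 0) : ∃ d, S.Nice M₀ (pv i j a) d := by
  refine S.exists_nice hodd (iso_pv hij ha) fun y hy => ?_
  obtain ⟨f, rfl⟩ := (S.umod.Ψ_bijective I).2 y
  have hperp : ∀ {k l : Fin n} {c : GF4}, k ≠ l → c ≠ 0 → hf (pv k l c) (pv i j a) = 0 →
      S.umod.rf I k l c f = f := fun hkl hc h =>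
    (S.umod.Ψ_bijective I).1 ((S.umod.r_Ψ' I hkl hc f).symm.trans
      (S.umod.perp _ _ (iso_pv hkl hc) (iso_pv hij ha) h _ hy))
  have hzero : ∀ l, l ≠ i → l ≠ j → f l = 0 := by
    intro l hli hlj
    obtain ⟨l', hl'i, hl'j, hl'l⟩ := S.umod.exists_off' I i j l
    have h0 : ∀ c : GF4, c ≠ 0 → S.umod.sm I c (f l) = f l' := by
      intro c hc
      have e := congrFun (hperp hl'l.symm hc (perp_pv hli hl'i hlj hl'j a c)) l'
      rwa [UMod.rf_apply, if_neg hl'l, if_pos rfl] at e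
    exact S.umod.sm_w_fpf I ((h0 _ K.w_ne.1).trans ((h0 1 one_ne_zero).symm.trans (S.umod.sm_one I _)))
  have hfj : S.umod.sm I a (f i) = f j := by
    have e := congrFun (hperp hij ha (iso_pv hij ha).2) j
    rwa [UMod.rf_apply, if_neg hij.symm, if_pos rfl] at e
  refine ⟨S.umod.Ψ I (Pi.single i (f i)), ?_⟩
  show _ = _ + S.umod.r i j a _
  rw [S.umod.r_Ψ' I hij ha, S.umod.rf_single I hij, ← map_add]
  congr 1
  funext l
  by_cases hli : l = i
  · subst hli; simp [hij]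
  by_cases hlj : l = j
  · subst hlj; simp [Ne.symm hij, hfj]
  simp [hli, hlj, hzero l hli hlj]

end General

variable {G : Type u} [Group G] [Finite G] (S : Setup 5 G)

include S in
theorem complement_five : ∃ K : Subgroup G, (pCore 2 G).IsComplement' K := by
  classical
  set I := Frame.std (n := 5) le_rfl (by decide) with hI
  obtain ⟨M₀, hodd, hdiag, hinj, hsur⟩ := S.exists_torus
  -- one member at each point
  have hex : ∀ v, Iso v → (∃ d, S.Nice M₀ v d) ∧ ∀ d d', S.Nice M₀ v d → S.Nice M₀ v d' → d = d' := by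
    have base : ∀ i j a, i ≠ j → a ≠ 0 → (∃ d, S.Nice M₀ (pv i j a) d) ∧
        ∀ d d', S.Nice M₀ (pv i j a) d → S.Nice M₀ (pv i j a) d' → d = d' := fun i j a hij ha =>
      ⟨S.exists_nice_pv I hodd hij ha, fun d d' h h' => S.nice_unique_of_free (iso_pv hij ha)
        (fun y _ hfix => S.free_pv I hsur hij ha y hfix) h h'⟩
    have b0 : (∃ d, S.Nice M₀ I.x₀ d) ∧ ∀ d d', S.Nice M₀ I.x₀ d → S.Nice M₀ I.x₀ d' → d = d' :=
      ⟨S.exists_nice hodd I.iso_x₀ fun y hy => S.umod.A_x₀_le I hy,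
        fun d d' h h' => S.nice_unique_of_free I.iso_x₀ (fun y hy hfix => S.free_x₀ I hsur y hy hfix) h h'⟩
    have stp : ∀ i j a, i ≠ j → a ≠ 0 → ∀ v, Iso v →
        ((∃ d, S.Nice M₀ v d) ∧ ∀ d d', S.Nice M₀ v d → S.Nice M₀ v d' → d = d') →
        ((∃ d, S.Nice M₀ (tv (pv i j a) v) d) ∧
          ∀ d d', S.Nice M₀ (tv (pv i j a) v) d → S.Nice M₀ (tv (pv i j a) v) d' → d = d') := by
      intro i j a hij ha v hv ⟨⟨e, he⟩, hu⟩
      obtain ⟨r, hr⟩ := (base i j a hij ha).1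
      refine ⟨⟨_, hr.move S I hodd hdiag hinj hsur hij ha hv he⟩, fun d d' h h' => ?_⟩
      have h1 := hr.move S I hodd hdiag hinj hsur hij ha (hv.tv (iso_pv hij ha).2) h
      have h2 := hr.move S I hodd hdiag hinj hsur hij ha (hv.tv (iso_pv hij ha).2) h'
      rw [tv_tv (iso_pv hij ha).2] at h1 h2
      exact mul_right_cancel (mul_left_cancel (by simpa only [mul_assoc] using hu _ _ h1 h2) |> fun e => e)
    have scl : ∀ v, Iso v → ∀ s : GF4, s ≠ 0 →
        ((∃ d, S.Nice M₀ v d) ∧ ∀ d d', S.Nice M₀ v d → S.Nice M₀ v d' → d = d') →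
        ((∃ d, S.Nice M₀ (s • v) d) ∧ ∀ d d', S.Nice M₀ (s • v) d → S.Nice M₀ (s • v) d' → d = d') := by
      intro v hv s hs ⟨⟨e, he⟩, hu⟩
      refine ⟨⟨e, he.smul S hv hs⟩, fun d d' h h' => hu d d' ?_ ?_⟩
      · have := h.smul S (hv.smul hs) (inv_ne_zero hs); rwa [inv_smul_smul₀ hs] at this
      · have := h'.smul S (hv.smul hs) (inv_ne_zero hs); rwa [inv_smul_smul₀ hs] at this
    intro v hv
    obtain ⟨p, q, s, hs, hp, hpa, hq, hqa, rfl | rfl⟩ := Five.witness v hv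
    · exact scl _ (iso_pv hp hpa) s hs (base _ _ _ hp hpa)
    · rw [base_eq]
      exact scl _ ((I.iso_x₀.tv (iso_pv hq hqa).2).tv (iso_pv hp hpa).2) s hs
        (stp _ _ _ hp hpa _ (I.iso_x₀.tv (iso_pv hq hqa).2) (stp _ _ _ hq hqa _ I.iso_x₀ b0))
  let σ : Vec 5 → G := fun v => if h : Iso v then (hex v h).1.choose else 1
  have hσ : ∀ v, Iso v → S.Nice M₀ v (σ v) := fun v hv => by
    simp only [σ, dif_pos hv]; exact (hex v hv).1.choose_spec
  have hσu : ∀ v, Iso v → ∀ d, S.Nice M₀ v d → d = σ v := fun v hv d h => (hex v hv).2 d _ h (hσ v hv)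
  have hσs : ∀ v, Iso v → ∀ s : GF4, s ≠ 0 → σ (s • v) = σ v := fun v hv s hs =>
    (hσu _ (hv.smul hs) _ ((hσ v hv).smul S hv hs)).symm
  have hsq : ∀ v, Iso v → σ v * σ v = 1 := fun v hv => mul_self S.cls.1 (hσ v hv).1
  have hσr : ∀ i j a, i ≠ j → a ≠ 0 → ∀ v, Iso v →
      σ (pv i j a) * σ v * σ (pv i j a) = σ (tv (pv i j a) v) := fun i j a hij ha v hv =>
    hσu _ (hv.tv (iso_pv hij ha).2) _ ((hσ _ (iso_pv hij ha)).move S I hodd hdiag hinj hsur hij ha hv (hσ v hv))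
  -- closed sets
  let Good : Vec 5 → Prop := fun a => ∀ b, Iso b → σ a * σ b * σ a = σ (tv a b)
  have img : ∀ a b, Iso a → Iso b → ∀ w, Iso w → σ a * σ b * σ a = σ w → σ a * σ b * σ a = σ (tv a b) := by
    intro a b ha hb w hw e
    have h1 := congrArg S.π e
    rw [map_mul, map_mul, (hσ a ha).2.1, (hσ b hb).2.1, (hσ w hw).2.1, conj_tEl_tEl ha.2 hb.2] at h1
    obtain ⟨c, hc, hwc⟩ := eq_smul_of_tEl_eq (hb.tv ha.2) hw h1
    rw [e, hwc, hσs _ (hb.tv ha.2) c hc]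
  have gr : ∀ i j a, i ≠ j → a ≠ 0 → Good (pv i j a) := fun i j a hij ha b hb => hσr i j a hij ha b hb
  set c := σ I.x₀ with hc
  have perpc : ∀ {u}, Iso u → hf I.x₀ u = 0 → c * σ u * c = σ u := fun {u} hu h => by
    rw [hc, (S.commute_of_perp_img (hσ _ I.iso_x₀).1 (hσ u hu).1 (hσ _ I.iso_x₀).2.1 (hσ u hu).2.1 I.iso_x₀ hu h).eq,
      mul_assoc, hsq _ I.iso_x₀, mul_one]
  have hbraid : ∀ i j a, i ≠ j → a ≠ 0 → hf I.x₀ (pv i j a) ≠ 0 →
      c * σ (pv i j a) * c = σ (pv i j a) * c * σ (pv i j a) := fun i j a hij ha h => by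
    refine braid S.cls.1 (hσ _ I.iso_x₀).1 (hσ _ (iso_pv hij ha)).1 fun hcm => h ?_
    exact S.perp_of_img_commute (hσ _ I.iso_x₀).2.1 (hσ _ (iso_pv hij ha)).2.1 I.iso_x₀ (iso_pv hij ha) hcm
  have cpv : ∀ i j a, i ≠ j → a ≠ 0 → c * σ (pv i j a) * c = σ (tv I.x₀ (pv i j a)) := fun i j a hij ha => by
    refine img _ _ I.iso_x₀ (iso_pv hij ha) (if hf I.x₀ (pv i j a) = 0 then pv i j a else tv (pv i j a) I.x₀) ?_ ?_
    · split_ifs
      exacts [iso_pv hij ha, I.iso_x₀.tv (iso_pv hij ha).2]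
    · split_ifs with h
      · exact perpc (iso_pv hij ha) h
      · exact (hbraid i j a hij ha h).trans (hσr i j a hij ha _ I.iso_x₀)
  -- conjugates of `c` by one monomial member go to monomial members or to `c`
  have c1 : ∀ i j a, i ≠ j → a ≠ 0 → c * σ (tv (pv i j a) I.x₀) * c =
      if hf I.x₀ (pv i j a) = 0 then c else σ (pv i j a) := fun i j a hij ha => by
    rw [← hσr i j a hij ha _ I.iso_x₀, ← hc]
    split_ifs with h
    · have e : σ (pv i j a) * c * σ (pv i j a) = c := by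
        have := congrArg (fun g => c * g * σ (pv i j a)) (perpc (iso_pv hij ha) h)
        simp only [← mul_assoc, hc, hsq _ I.iso_x₀, one_mul] at this
        rw [hc, this, mul_assoc, hsq _ (iso_pv hij ha)]
        simp [mul_assoc, hsq _ (iso_pv hij ha)]
      rw [e, hc, hsq _ I.iso_x₀, one_mul]
    · rw [← hbraid i j a hij ha h, hc]
      simp [mul_assoc, mul_self_mul S.cls.1 (hσ _ I.iso_x₀).1, hsq _ I.iso_x₀]
  have gx : Good I.x₀ := by
    intro b hb
    obtain ⟨p, q, s, hs, hp, hpa, hq, hqa, rfl | rfl⟩ := Five.witness b hb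
    · have := cpv _ _ _ hp hpa
      rw [hσs _ (iso_pv hp hpa) s hs, tv_apply_smul, hσs _ ((iso_pv hp hpa).tv I.iso_x₀.2) s hs]
      exact this
    rw [base_eq] at *
    set b' := tv (pv q.1 q.2.1 q.2.2) I.x₀ with hb'
    have hb'i : Iso b' := I.iso_x₀.tv (iso_pv hq hqa).2
    have hrb := hb'i.tv (iso_pv hp hpa).2
    rw [hσs _ hrb s hs, tv_apply_smul, hσs _ (hrb.tv I.iso_x₀.2) s hs]
    suffices h : ∃ w, Iso w ∧ c * σ (tv (pv p.1 p.2.1 p.2.2) b') * c = σ w by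
      obtain ⟨w, hw, e⟩ := h
      exact img _ _ I.iso_x₀ hrb w hw e
    rw [← hσr _ _ _ hp hpa _ hb'i]
    set r := σ (pv p.1 p.2.1 p.2.2) with hr
    have hr2 : r * r = 1 := hsq _ (iso_pv hp hpa)
    have hcc : c * c = 1 := hsq _ I.iso_x₀
    have key : c * (r * σ b' * r) * c = (c * r * c) * (c * σ b' * c) * (c * r * c) := by
      simp only [mul_assoc]
      rw [← mul_assoc c c (σ b' * _), hcc, one_mul, ← mul_assoc c c (r * c), hcc, one_mul]
    rw [key, c1 _ _ _ hq hqa]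
    by_cases h1 : hf I.x₀ (pv p.1 p.2.1 p.2.2) = 0
    · rw [perpc (iso_pv hp hpa) h1]
      split_ifs
      · exact ⟨_, I.iso_x₀.tv (iso_pv hp hpa).2, hσr _ _ _ hp hpa _ I.iso_x₀⟩
      · exact ⟨_, (iso_pv hq hqa).tv (iso_pv hp hpa).2, hσr _ _ _ hp hpa _ (iso_pv hq hqa)⟩
    · rw [hbraid _ _ _ hp hpa h1, ← hr]
      split_ifs with h2
      · refine ⟨_, iso_pv hp hpa, ?_⟩
        rw [← hr]
        have hbr : c * r * c = r * c * r := hbraid _ _ _ hp hpa h1
        calc r * c * r * c * (r * c * r) = r * (c * r * c) * (r * c * r) := by simp [mul_assoc]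
          _ = r * (r * c * r) * (r * c * r) := by rw [hbr]
          _ = r := by
            have hrr : ∀ x, r * (r * x) = x := fun x => by rw [← mul_assoc, hr2, one_mul]
            have hccx : ∀ x, c * (c * x) = x := fun x => by rw [← mul_assoc, hcc, one_mul]
            simp [mul_assoc, hr2, hcc, hrr, hccx]
      · set u := tv (pv p.1 p.2.1 p.2.2) (pv q.1 q.2.1 q.2.2) with hu
        have hu' : Iso u := (iso_pv hq hqa).tv (iso_pv hp hpa).2
        -- `r σ(q) r` is again monomial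
        obtain ⟨i, j, a, t, hij, ha, ht, hue⟩ : ∃ (i j : Fin 5) (a t : GF4), i ≠ j ∧ a ≠ 0 ∧ t ≠ 0 ∧
            u = t • pv i j a := Five.pv_tv hp hpa hq hqa
        have e : r * c * r * σ (pv q.1 q.2.1 q.2.2) * (r * c * r) =
            r * (c * σ (pv i j a) * c) * r := by
          rw [← hσs _ (iso_pv hij ha) t ht, ← hue, hu, ← hσr _ _ _ hp hpa _ (iso_pv hq hqa), ← hr]
          simp [mul_assoc]
        exact ⟨_, ((iso_pv hij ha).tv I.iso_x₀.2).tv (iso_pv hp hpa).2, by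
          rw [e, cpv i j a hij ha, hr, hσr _ _ _ hp hpa _ ((iso_pv hij ha).tv I.iso_x₀.2)]⟩
  -- every point is good
  have gstep : ∀ i j a, i ≠ j → a ≠ 0 → ∀ v, Iso v → Good v → Good (tv (pv i j a) v) := by
    intro i j a hij ha v hv g b hb
    have hu := iso_pv hij ha
    refine img _ _ (hv.tv hu.2) hb (tv (pv i j a) (tv v (tv (pv i j a) b))) (((hb.tv hu.2).tv hv.2).tv hu.2) ?_
    rw [← hσr i j a hij ha v hv, ← hσr i j a hij ha _ ((hb.tv hu.2).tv hv.2), ← g _ (hb.tv hu.2),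
      ← hσr i j a hij ha b hb]
    simp [mul_assoc]
  have gall : ∀ v, Iso v → Good v := by
    intro v hv
    obtain ⟨p, q, s, hs, hp, hpa, hq, hqa, rfl | rfl⟩ := Five.witness v hv
    · intro b hb
      rw [hσs _ (iso_pv hp hpa) s hs, tv_smul hs]
      exact gr _ _ _ hp hpa b hb
    · intro b hb
      rw [base_eq, hσs _ ((I.iso_x₀.tv (iso_pv hq hqa).2).tv (iso_pv hp hpa).2) s hs, tv_smul hs]
      exact gstep _ _ _ hp hpa _ (I.iso_x₀.tv (iso_pv hq hqa).2) (gstep _ _ _ hq hqa _ I.iso_x₀ gx) b hb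
  -- the subgroup
  set Kc := Subgroup.closure {g | ∃ v, Iso v ∧ g = σ v} with hK
  have hsub : ∀ g ∈ Kc, ∀ v, Iso v → ∃ w, Iso w ∧ g * σ v * g⁻¹ = σ w := by
    intro g hg
    rw [hK, ← Subgroup.mem_toSubmonoid, Subgroup.closure_toSubmonoid_of_finite] at hg
    induction hg using Submonoid.closure_induction with
    | mem g hg =>
      obtain ⟨a, ha, rfl⟩ := hg
      intro v hv
      exact ⟨_, hv.tv ha.2, by rw [inv_eq S.cls.1 (hσ a ha).1]; exact gall a ha v hv⟩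
    | one => exact fun v hv => ⟨v, hv, by simp⟩
    | mul x y _ _ ihx ihy =>
      intro v hv
      obtain ⟨w, hw, e⟩ := ihy v hv
      obtain ⟨w', hw', e'⟩ := ihx w hw
      exact ⟨w', hw', by rw [← e', ← e]; group⟩
  have hone : ∀ t ∈ Kc, t ∈ pCore 2 G → t = 1 := by
    intro t ht htQ
    have hc : t ∈ Subgroup.center G := mem_center_of_commute S.cls.2.2 fun d hd => by
      obtain ⟨v, hv, hdv⟩ := S.exists_vec hd
      have h1 : Commute t (σ v) := by
        obtain ⟨w, hw, e⟩ := hsub t ht v hv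
        have h2 := congrArg S.π e
        rw [map_mul, map_mul, map_inv, (S.mem_pCore_iff).1 htQ, one_mul, inv_one, mul_one, (hσ v hv).2.1,
          (hσ w hw).2.1] at h2
        obtain ⟨s, hs, rfl⟩ := eq_smul_of_tEl_eq hv hw h2
        rw [hσs v hv s hs] at e
        exact mul_inv_eq_iff_eq_mul.1 e
      have htR : t ∈ S.R := by rwa [← S.radical_eq I]
      have h3 : Commute t (d * σ v) := S.R_commute htR (S.A_le_R hv (S.mul_mem_A hd (hσ v hv).1 hdv (hσ v hv).2.1))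
      have := h3.mul_right h1
      rwa [mul_assoc, hsq v hv, mul_one] at this
    rwa [S.center, Subgroup.mem_bot] at hc
  refine ⟨Kc, Subgroup.isComplement'_of_disjoint_and_mul_eq_univ ?_ ?_⟩
  · rw [Subgroup.disjoint_def]
    exact fun hQ hK' => hone _ hK' hQ
  · refine Set.eq_univ_of_forall fun g => ?_
    have hmap : Kc.map S.π = ⊤ := by
      refine top_unique ?_
      rw [← Subgroup.map_top_of_surjective S.π S.surj, ← S.cls.2.2, MonoidHom.map_closure, Subgroup.closure_le]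
      rintro _ ⟨d, hd, rfl⟩
      obtain ⟨v, hv, hdv⟩ := S.exists_vec hd
      exact ⟨σ v, Subgroup.subset_closure ⟨v, hv, rfl⟩, (hσ v hv).2.1.trans hdv.symm⟩
    obtain ⟨k, hk, hkg⟩ := (hmap ▸ Subgroup.mem_top (S.π g) : S.π g ∈ Kc.map S.π)
    refine ⟨g * k⁻¹, ?_, k, hk, by simp⟩
    rw [SetLike.mem_coe, S.mem_pCore_iff, map_mul, map_inv, hkg, mul_inv_cancel]

end Setup

end CfsgLib.TwoRadicalSU
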