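import Cfsg.Agent.Lib.TwoRadicalSU.Decomp

/-!
# Coordinates: the monomial transvections act as on a sum of natural modules
-/

set_option autoImplicit false
set_option linter.unusedSectionVars false

namespace CfsgLib.TwoRadicalSU

open CfsgLib.TwoRadical Matrix

namespace UMod

variable {n : ℕ} {V : Type*} [AddCommGroup V] (M : UMod n V) (I : Frame n)

/-- The multiplicity space. -/
abbrev W : AddSubgroup V := M.Fx I.a

include M in
theorem U_any {j : Fin n} (hj : I.a ≠ j) {x : V} (hx : x ∈ M.Fx I.a) : M.U I.a j x = M.U I.a I.b x := by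
  by_cases h : j = I.b
  · rw [h]
  · rw [M.U_compose I.ab h hj, M.U_fix_Fx hx h hj.symm I.ab.symm]

/-- A cube root of unity on the multiplicity space. -/
def u : M.W I →+ M.W I :=
  ((M.U I.a I.b).comp (M.W I).subtype).codRestrict (M.W I) fun x => M.U_mem_Fx x.2 I.ab

theorem u_coe (x : M.W I) : (M.u I x : V) = M.U I.a I.b x := rfl

theorem u_cube (x : M.W I) : M.u I (M.u I (M.u I x)) = x := Subtype.ext (M.U_cube I.ab (x : V))

theorem u_rel (x : M.W I) : x + M.u I x + M.u I (M.u I x) = 0 := by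
  refine Subtype.ext ?_
  show M.Nm I.a I.b (x : V) = 0
  refine M.eq_zero_of_Fx I ?_ I.ab (M.U_Nm I.ab _)
  exact (x + M.u I x + M.u I (M.u I x)).2

theorem W_add_self (x : M.W I) : x + x = 0 := Subtype.ext (M.add_self _)

open Classical in
/-- The action of the field on the multiplicity space. -/
def sm (a : GF4) : M.W I →+ M.W I :=
  if a = 0 then 0 else if a = 1 then AddMonoidHom.id _ else if a = GF4.w then M.u I else (M.u I).comp (M.u I)

theorem sm_zero (x : M.W I) : M.sm I 0 x = 0 := by simp [sm]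

theorem sm_one (x : M.W I) : M.sm I 1 x = x := by simp [sm]

theorem sm_w (x : M.W I) : M.sm I GF4.w x = M.u I x := by simp [sm, K.w_ne.1, K.w_ne.2.1]

theorem sm_w2 (x : M.W I) : M.sm I (GF4.w ^ 2) x = M.u I (M.u I x) := by
  simp [sm, K.w_ne.2.2.1, K.w_ne.2.2.2.1, K.w_ne.2.2.2.2]

theorem sm_mul (a b : GF4) (x : M.W I) : M.sm I (a * b) x = M.sm I a (M.sm I b x) := by
  rcases K.cases a with rfl | rfl | rfl | rfl <;> rcases K.cases b with rfl | rfl | rfl | rfl <;>
    first
    | simp only [zero_mul, mul_zero, one_mul, mul_one, sm_zero, sm_one, map_zero]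
    | rw [show GF4.w * GF4.w = GF4.w ^ 2 by decide +kernel, sm_w2, sm_w, sm_w]
    | rw [show GF4.w * GF4.w ^ 2 = 1 by decide +kernel, sm_one, sm_w, sm_w2, u_cube]
    | rw [show GF4.w ^ 2 * GF4.w = 1 by decide +kernel, sm_one, sm_w, sm_w2, u_cube]
    | rw [show GF4.w ^ 2 * GF4.w ^ 2 = GF4.w by decide +kernel, sm_w, sm_w2, sm_w2, u_cube]

theorem sm_add (a b : GF4) (x : M.W I) : M.sm I (a + b) x = M.sm I a x + M.sm I b x := by
  have h := M.u_rel I x
  have h2 := M.W_add_self I
  have h3 : M.u I (M.u I x) = x + M.u I x := by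
    have e := eq_neg_of_add_eq_zero_right h
    rw [e, neg_eq_iff_add_eq_zero, h2]
  rcases K.cases a with rfl | rfl | rfl | rfl <;> rcases K.cases b with rfl | rfl | rfl | rfl <;>
    first
    | simp only [zero_add, add_zero, sm_zero]
    | (simp only [K.add_self, sm_zero, h2]; done)
    | (rw [show (1 : GF4) + GF4.w = GF4.w ^ 2 by decide +kernel, sm_w2, sm_w, sm_one, h3]; done)
    | (rw [show GF4.w + (1 : GF4) = GF4.w ^ 2 by decide +kernel, sm_w2, sm_w, sm_one, h3, add_comm]; done)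
    | (rw [show (1 : GF4) + GF4.w ^ 2 = GF4.w by decide +kernel, sm_w, sm_w2, sm_one, h3, ← add_assoc, h2,
        zero_add]; done)
    | (rw [show GF4.w ^ 2 + (1 : GF4) = GF4.w by decide +kernel, sm_w, sm_w2, sm_one, h3, add_comm x, add_assoc,
        h2, add_zero]; done)
    | (rw [show GF4.w + GF4.w ^ 2 = 1 by decide +kernel, sm_one, sm_w, sm_w2, h3, add_comm x, ← add_assoc, h2,
        zero_add]; done)
    | (rw [show GF4.w ^ 2 + GF4.w = 1 by decide +kernel, sm_one, sm_w, sm_w2, h3, add_assoc, h2, add_zero]; done)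

theorem sm_inv {a : GF4} (ha : a ≠ 0) (x : M.W I) : M.sm I (a ^ 2) (M.sm I a x) = x := by
  rw [← sm_mul, mul_comm, K.cube a ha, sm_one]

open Classical in
/-- The transporters. -/
def s (i : Fin n) : M.W I →+ V :=
  if i = I.a then (M.W I).subtype else (M.r I.a i 1).comp (M.W I).subtype

theorem s_self (x : M.W I) : M.s I I.a x = x := by rw [s, if_pos rfl]; rfl

theorem s_apply {i : Fin n} (hi : i ≠ I.a) (x : M.W I) : M.s I i x = M.r I.a i 1 x := by
  rw [s, if_neg hi]; rfl

theorem r_base {j : Fin n} (hj : j ≠ I.a) {a : GF4} (ha : a ≠ 0) (x : M.W I) :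
    M.r I.a j a x = M.s I j (M.sm I a x) := by
  rw [s_apply M I hj]
  have h1 : ∀ y, M.r I.a j 1 (M.r I.a j 1 y) = y := M.r_sq hj.symm one_ne_zero
  have hU := M.U_any I hj.symm x.2
  rcases K.cases a with rfl | rfl | rfl | rfl
  · exact absurd rfl ha
  · rw [sm_one]
  · rw [sm_w, u_coe, ← hU, M.U_alt hj.symm, h1]
  · rw [sm_w2, u_coe, u_coe, ← M.U_any I hj.symm (M.U_mem_Fx x.2 I.ab), ← hU, M.U_sq hj.symm,
      M.U_swap hj.symm]
    have e := M.r_same hj.symm one_ne_zero K.w_ne.1 (x : V)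
    rw [one_pow, one_mul] at e
    rw [← h1 (M.r I.a j GF4.w (M.r I.a j 1 (x : V)))] at *
    rw [← e, h1]

theorem r_natural {i j : Fin n} (hij : i ≠ j) {a : GF4} (ha : a ≠ 0) (x : M.W I) :
    M.r i j a (M.s I i x) = M.s I j (M.sm I a x) := by
  by_cases hi : i = I.a
  · subst hi; rw [s_self]; exact M.r_base I hij.symm ha x
  by_cases hj : j = I.a
  · subst hj
    rw [← M.r_swap' hij.symm ha, s_self, s_apply M I hi]
    have := M.r_base I hi (pow_ne_zero 2 ha) (M.sm I a x)
    rw [sm_inv M I ha, s_apply M I hi] at this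
    rw [← this, M.r_sq hij.symm (pow_ne_zero 2 ha)]
  rw [s_apply M I hi, s_apply M I hj]
  have h1 := M.r_conj' (Ne.symm hi) hij (Ne.symm hj) one_ne_zero ha x
  rw [one_mul] at h1
  have h2 : M.r i j a (M.r I.a i 1 x) = M.r I.a i 1 (M.r I.a j a x) := by
    rw [← h1, M.r_sq (Ne.symm hi) one_ne_zero]
  rw [h2, M.r_base I hj ha, s_apply M I hj]
  have hfix : M.r i j 1 (M.sm I a x : V) = M.sm I a x :=
    (M.sm I a x).2 i j 1 hij hi hj one_ne_zero
  have h3 := M.r_conj (Ne.symm hi) hij (Ne.symm hj) (one_ne_zero (α := GF4)) (one_ne_zero (α := GF4))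
  have h4 : ∀ y, M.r I.a i 1 (M.r I.a j 1 y) = M.r I.a j 1 (M.r i j 1 y) := by
    intro y
    have e := M.r_conj' (Ne.symm hj) hij.symm (Ne.symm hi) (one_ne_zero (α := GF4)) (one_ne_zero (α := GF4))
      (M.r I.a j 1 y)
    rw [M.r_sq (Ne.symm hj) one_ne_zero, one_mul] at e
    have e' : M.r j i 1 = M.r i j 1 := by
      have := M.r_swap hij (one_ne_zero (α := GF4)); rwa [one_pow] at this
    rw [← e, e']
  rw [h4, hfix]

theorem s_mem (i : Fin n) (x : M.W I) : M.s I i x ∈ M.Fx i := by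
  intro j k a hjk hj hk ha
  by_cases hi : i = I.a
  · subst hi; rw [s_self]; exact x.2 j k a hjk hj hk ha
  rw [s_apply M I hi]
  by_cases hja : j = I.a
  · subst hja
    have hx : M.r i k a (x : V) = x := x.2 i k a hk.symm hi (Ne.symm hjk) ha
    have h3 := M.r_conj' (Ne.symm hi) hk.symm hjk one_ne_zero ha (M.r I.a i 1 x)
    rw [M.r_sq (Ne.symm hi) one_ne_zero, hx, one_mul] at h3
    exact h3.symm
  by_cases hka : k = I.a
  · subst hka
    rw [← M.r_swap hjk ha]
    have hx : M.r i j (a ^ 2) (x : V) = x := x.2 i j _ hj.symm hi hjk (pow_ne_zero 2 ha)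
    have h3 := M.r_conj' (Ne.symm hi) hj.symm hjk.symm one_ne_zero (pow_ne_zero 2 ha) (M.r I.a i 1 x)
    rw [M.r_sq (Ne.symm hi) one_ne_zero, hx, one_mul] at h3
    exact h3.symm
  rw [M.r_comm hjk (Ne.symm hi) (Ne.symm hja) (Ne.symm hka) hj.symm hk.symm ha one_ne_zero,
    x.2 j k a hjk hja hka ha]

theorem r_fix_s {i j k : Fin n} (hjk : j ≠ k) (hj : j ≠ i) (hk : k ≠ i) {a : GF4} (ha : a ≠ 0) (x : M.W I) :
    M.r j k a (M.s I i x) = M.s I i x := M.s_mem I i x j k a hjk hj hk ha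

/-- The coordinate map. -/
def Ψ : (Fin n → M.W I) →+ V where
  toFun f := ∑ i, M.s I i (f i)
  map_zero' := by simp
  map_add' f g := by simp [Finset.sum_add_distrib]

theorem Ψ_apply (f : Fin n → M.W I) : M.Ψ I f = ∑ i, M.s I i (f i) := rfl

theorem Ψ_single (i : Fin n) (x : M.W I) : M.Ψ I (Pi.single i x) = M.s I i x := by
  rw [Ψ_apply, Finset.sum_eq_single i]
  · rw [Pi.single_eq_same]
  · intro j _ hj; rw [Pi.single_eq_of_ne hj, map_zero]
  · simp

theorem s_injective (i : Fin n) : Function.Injective (M.s I i) := by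
  intro x y h
  by_cases hi : i = I.a
  · subst hi; rw [s_self, s_self] at h; exact Subtype.ext h
  rw [s_apply M I hi, s_apply M I hi] at h
  have := congrArg (M.r I.a i 1) h
  rw [M.r_sq (Ne.symm hi) one_ne_zero, M.r_sq (Ne.symm hi) one_ne_zero] at this
  exact Subtype.ext this

theorem s_surj (i : Fin n) {y : V} (hy : y ∈ M.Fx i) : ∃ x, M.s I i x = y := by
  by_cases hi : i = I.a
  · subst hi; exact ⟨⟨y, hy⟩, M.s_self I _⟩
  have hmem : M.r I.a i 1 y ∈ M.Fx I.a := by
    intro j k a hjk hj hk ha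
    by_cases hji : j = i
    · subst hji
      have h3 := M.r_conj' (Ne.symm hi) hjk hk.symm one_ne_zero ha (M.r I.a j 1 y)
      rw [M.r_sq (Ne.symm hi) one_ne_zero, one_mul, ] at h3
      have h4 := M.r_conj' (Ne.symm hi) hjk hk.symm one_ne_zero ha y
      rw [one_mul, hy I.a k a hk.symm (Ne.symm hi) (Ne.symm hjk) ha] at h4
      have h5 := congrArg (M.r I.a j 1) h4
      rwa [M.r_sq (Ne.symm hi) one_ne_zero] at h5
    by_cases hki : k = i
    · subst hki
      rw [← M.r_swap hjk ha]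
      have h4 := M.r_conj' (Ne.symm hi) hjk.symm hj.symm one_ne_zero (pow_ne_zero 2 ha) y
      rw [one_mul, hy I.a j _ hj.symm (Ne.symm hi) hjk (pow_ne_zero 2 ha)] at h4
      have h5 := congrArg (M.r I.a k 1) h4
      rwa [M.r_sq (Ne.symm hi) one_ne_zero] at h5
    rw [M.r_comm hjk (Ne.symm hi) hj.symm hk.symm (Ne.symm hji) (Ne.symm hki) ha one_ne_zero,
      hy j k a hjk hji hki ha]
  exact ⟨⟨_, hmem⟩, by rw [s_apply M I hi, M.r_sq (Ne.symm hi) one_ne_zero]⟩

theorem Ψ_bijective : Function.Bijective (M.Ψ I) := by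
  constructor
  · rw [injective_iff_map_eq_zero]
    intro f hf'
    have := M.eq_zero_of_sum I (fun i => M.s I i (f i)) (fun i => M.s_mem I i _) hf'
    funext i
    exact M.s_injective I i (by simpa using congrFun this i)
  · intro x
    have h : (⨆ i, M.Fx i) ≤ (M.Ψ I).range := iSup_le fun i y hy => by
      obtain ⟨w, rfl⟩ := M.s_surj I i hy
      exact ⟨Pi.single i w, M.Ψ_single I i w⟩
    exact h (M.mem_iSup_Fx I x)

/-- The natural action of a monomial transvection on coordinates. -/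
theorem r_Ψ {i j : Fin n} (hij : i ≠ j) {a : GF4} (ha : a ≠ 0) (f : Fin n → M.W I) :
    M.r i j a (M.Ψ I f) =
      M.Ψ I (fun k => if k = i then M.sm I (a ^ 2) (f j) else if k = j then M.sm I a (f i) else f k) := by
  rw [Ψ_apply, Ψ_apply, map_sum]
  refine Finset.sum_equiv (Equiv.swap i j) (fun _ => by simp) fun k _ => ?_
  by_cases hki : k = i
  · subst hki
    rw [Equiv.swap_apply_left, if_neg hij.symm, if_pos rfl, M.r_natural I hij ha]
  · by_cases hkj : k = j
    · subst hkj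
      rw [Equiv.swap_apply_right, if_pos rfl, ← M.r_natural I hij.symm (pow_ne_zero 2 ha), M.r_swap hij ha]
    · rw [Equiv.swap_apply_of_ne_of_ne hki hkj, if_neg hki, if_neg hkj, M.r_fix_s I hij (Ne.symm hki) (Ne.symm hkj) ha]

end UMod

end CfsgLib.TwoRadicalSU
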