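import Cfsg.Agent.Lib.TwoRadicalSU.Geom

/-!
# The points of weight two and four generate all isotropic points
-/

set_option autoImplicit false
set_option linter.unusedSectionVars false

namespace CfsgLib.TwoRadicalSU

open CfsgLib.TwoRadical Matrix

variable {n : ℕ}

/-- The indicator vector of a set of coordinates. -/
def ind (S : Finset (Fin n)) : Vec n := fun k => if k ∈ S then 1 else 0

theorem hf_ind (x : Vec n) (S : Finset (Fin n)) : hf x (ind S) = ∑ k ∈ S, x k := by
  have : ∀ k, x k * (ind S k) ^ 2 = if k ∈ S then x k else 0 := fun k => by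
    unfold ind; split_ifs <;> simp
  show ∑ k, x k * (ind S k) ^ 2 = _
  simp only [this, Finset.sum_ite_mem, Finset.univ_inter]

theorem natCast_eq (m : ℕ) : (m : GF4) = if m % 2 = 0 then 0 else 1 := by
  rcases Nat.mod_two_eq_zero_or_one m with h | h
  · rw [if_pos h, CharP.cast_eq_mod GF4 2 m, h, Nat.cast_zero]
  · rw [if_neg (by omega), CharP.cast_eq_mod GF4 2 m, h, Nat.cast_one]

theorem hf_ind_ind (S T : Finset (Fin n)) : hf (ind S) (ind T) = ((T ∩ S).card : GF4) := by
  rw [hf_ind]
  simp only [ind, Finset.sum_boole, Finset.filter_mem_eq_inter]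

theorem even_of_iso {v : Vec n} (hv : Iso v) : Even (Finset.univ.filter fun k => v k ≠ 0).card := by
  have key : ∀ a : GF4, a * a ^ 2 = if a ≠ 0 then 1 else 0 := by decide +kernel
  have h := hv.2
  rw [show hf v v = ∑ k, v k * v k ^ 2 from rfl] at h
  simp only [key, Finset.sum_boole] at h
  rw [natCast_eq] at h
  rw [Nat.even_iff]
  by_contra h2
  rw [if_neg h2] at h
  exact one_ne_zero h

theorem iso_ind {S : Finset (Fin n)} (hS : Even S.card) (h : S.Nonempty) : Iso (ind S) := by
  obtain ⟨k, hk⟩ := h
  refine ⟨fun e => ?_, ?_⟩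
  · have := congrFun e k; simp [ind, hk] at this
  · rw [hf_ind_ind, Finset.inter_self, natCast_eq, if_pos (Nat.even_iff.1 hS)]

/-- Exchanging one member of an indicator. -/
theorem tv_pv_ind {S : Finset (Fin n)} {a b : Fin n} (ha : a ∈ S) (hb : b ∉ S) :
    tv (pv a b 1) (ind S) = ind (insert b (S.erase a)) := by
  have hab : a ≠ b := fun e => hb (e ▸ ha)
  funext k
  rw [tv_pv hab one_ne_zero]
  simp only [ind, one_pow, one_mul, Finset.mem_insert, Finset.mem_erase, ha, hb, if_true, if_false]
  by_cases h1 : k = a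
  · simp [h1, hab]
  · by_cases h2 : k = b
    · simp [h1, h2, hab.symm]
    · simp [h1, h2]

/-- A predicate closed under the monomial transvections and containing a point of weight four. -/
theorem reach (hn : Odd n) (P : Vec n → Prop) (hsmul : ∀ v (a : GF4), Iso v → a ≠ 0 → P v → P (a • v))
    (hpv : ∀ i j a, i ≠ j → a ≠ 0 → P (pv i j a)) {S₀ : Finset (Fin n)} (hS₀ : S₀.card = 4)
    (h4 : P (ind S₀)) (hstep : ∀ u v, Iso u → Iso v → P u → P v → P (tv u v)) :
    ∀ v, Iso v → P v := by
  have back : ∀ {u v : Vec n}, Iso u → Iso v → P u → P (tv u v) → P v := fun hu hv hPu h => by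
    have := hstep _ _ hu (hv.tv hu.2) hPu h
    rwa [tv_tv hu.2] at this
  -- indicators of four coordinates
  have four : ∀ S : Finset (Fin n), S.card = 4 → P (ind S) := by
    intro S
    induction' h : (S \ S₀).card with m ih generalizing S <;> intro hS
    · have : S = S₀ := Finset.eq_of_subset_of_card_le
        (Finset.sdiff_eq_empty_iff_subset.1 (Finset.card_eq_zero.1 h)) (by rw [hS, hS₀])
      rwa [this]
    · obtain ⟨a, ha⟩ := Finset.card_pos.1 (by omega : 0 < (S \ S₀).card)
      obtain ⟨b, hb⟩ : (S₀ \ S).Nonempty := Finset.card_pos.1 (by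
        rw [Finset.card_sdiff_comm (by rw [hS, hS₀])]; omega)
      rw [Finset.mem_sdiff] at ha hb
      have hab : a ≠ b := fun e => hb.2 (e ▸ ha.1)
      refine back (iso_pv hab one_ne_zero) (iso_ind (by rw [hS]; decide) (Finset.card_pos.1 (by omega)))
        (hpv a b 1 hab one_ne_zero) ?_
      rw [tv_pv_ind ha.1 hb.2]
      refine ih _ ?_ ?_
      · have : insert b (S.erase a) \ S₀ = (S \ S₀).erase a := by
          ext k
          simp only [Finset.mem_sdiff, Finset.mem_insert, Finset.mem_erase]
          constructor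
          · rintro ⟨rfl | ⟨h1, h2⟩, h3⟩
            · exact absurd hb.1 h3
            · exact ⟨h1, h2, h3⟩
          · rintro ⟨h1, h2, h3⟩; exact ⟨Or.inr ⟨h1, h2⟩, h3⟩
        rw [this, Finset.card_erase_of_mem (Finset.mem_sdiff.2 ha), h]; omega
      · rw [Finset.card_insert_of_notMem (fun e => hb.2 (Finset.mem_of_mem_erase e)),
          Finset.card_erase_of_mem ha.1, hS]
  -- all indicators
  have even : ∀ S : Finset (Fin n), Even S.card → S.Nonempty → P (ind S) := by
    intro S
    induction' hm : S.card using Nat.strong_induction_on with m ih generalizing S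
    intro he hne
    have hpos := Finset.card_pos.2 hne
    obtain ⟨e, he'⟩ := hn
    have hlt : S.card < n := by
      have := Finset.card_le_univ S
      simp at this
      obtain ⟨c, hc⟩ := he
      omega
    obtain ⟨z, hz⟩ : ∃ z, z ∉ S := by
      by_contra hc
      push Not at hc
      have : S = Finset.univ := Finset.eq_univ_of_forall hc
      simp [this] at hlt
    rcases lt_trichotomy S.card 4 with h | h | h
    · have h2 : S.card = 2 := by obtain ⟨c, hc⟩ := he; omega
      obtain ⟨a, b, hab, rfl⟩ := Finset.card_eq_two.1 h2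
      have : ind ({a, b} : Finset (Fin n)) = pv a b 1 := funext fun k => by
        by_cases h1 : k = a
        · simp [ind, h1, pv_left hab]
        · by_cases h2 : k = b
          · simp [ind, h2, pv_right hab]
          · simp [ind, h1, h2, pv_other h1 h2]
      rw [this]; exact hpv a b 1 hab one_ne_zero
    · exact four S h
    · obtain ⟨T, hT, hTc⟩ := Finset.exists_subset_card_eq (by omega : 3 ≤ S.card)
      have hzT : z ∉ T := fun e => hz (hT e)
      have huc : (insert z T).card = 4 := by rw [Finset.card_insert_of_notMem hzT, hTc]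
      have hu : Iso (ind (insert z T)) := iso_ind (by rw [huc]; decide) ⟨z, Finset.mem_insert_self z T⟩
      refine back hu (iso_ind (hm ▸ he) hne) (four _ huc) ?_
      have hpair : hf (ind S) (ind (insert z T)) = 1 := by
        rw [hf_ind_ind, show insert z T ∩ S = T by
          ext k; simp only [Finset.mem_inter, Finset.mem_insert]
          exact ⟨fun h => h.1.resolve_left (fun e => hz (e ▸ h.2)), fun h => ⟨Or.inr h, hT h⟩⟩, hTc, natCast_eq]
        simp
      have e1 : tv (ind (insert z T)) (ind S) = ind (insert z (S \ T)) := by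
        rw [tv, hpair, one_smul]
        funext k
        simp only [Pi.add_apply, ind, Finset.mem_insert, Finset.mem_sdiff]
        by_cases h1 : k = z
        · simp [h1, hz]
        · by_cases h2 : k ∈ T
          · simp [h1, h2, hT h2, K.add_self]
          · simp [h1, h2]
      rw [e1]
      have hc : (insert z (S \ T)).card = S.card - 2 := by
        rw [Finset.card_insert_of_notMem (fun e => hz (Finset.mem_sdiff.1 e).1),
          Finset.card_sdiff_of_subset hT, hTc]
        omega
      refine ih _ (by omega) _ hc ?_ ⟨z, Finset.mem_insert_self _ _⟩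
      obtain ⟨c, hc'⟩ := he; exact ⟨c - 1, by omega⟩
  -- arbitrary phases
  intro v
  induction' hm : (Finset.univ.filter fun k => v k ≠ 0 ∧ v k ≠ 1).card with m ih generalizing v <;> intro hv
  · have hv' : v = ind (Finset.univ.filter fun k => v k ≠ 0) := funext fun k => by
      have hk : ¬ (v k ≠ 0 ∧ v k ≠ 1) := fun h => by
        rw [Finset.card_eq_zero] at hm
        exact Finset.notMem_empty k (hm ▸ Finset.mem_filter.2 ⟨Finset.mem_univ k, h⟩)
      by_cases h0 : v k = 0
      · simp [ind, h0]
      · simp [ind, h0, not_not.1 fun h => hk ⟨h0, h⟩]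
    rw [hv']
    refine even _ (even_of_iso hv) ?_
    obtain ⟨k, hk⟩ := Function.ne_iff.1 hv.1
    exact ⟨k, Finset.mem_filter.2 ⟨Finset.mem_univ k, hk⟩⟩
  · obtain ⟨k, hk⟩ := Finset.card_pos.1 (by omega : 0 < (Finset.univ.filter fun k => v k ≠ 0 ∧ v k ≠ 1).card)
    have hk' := (Finset.mem_filter.1 hk).2
    obtain ⟨z, hz⟩ : ∃ z, v z = 0 := by
      by_contra hc
      push Not at hc
      have := even_of_iso hv
      rw [Finset.filter_true_of_mem (fun x _ => hc x), Finset.card_univ, Fintype.card_fin] at this
      exact (Nat.not_even_iff_odd.2 hn) this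
    have hkz : k ≠ z := fun e => hk'.1 (e ▸ hz)
    have hinv : (v k)⁻¹ ≠ 0 := inv_ne_zero hk'.1
    have hu1 := iso_pv hkz hinv
    have hu2 := iso_pv hkz (one_ne_zero (α := GF4))
    refine back hu1 hv (hpv k z _ hkz hinv) ?_
    refine back hu2 (hv.tv hu1.2) (hpv k z 1 hkz one_ne_zero) ?_
    refine ih _ ?_ ((hv.tv hu1.2).tv hu2.2)
    have hval : ∀ l, tv (pv k z 1) (tv (pv k z (v k)⁻¹) v) l = if l = k then 1 else v l := by
      intro l
      rw [tv_pv hkz one_ne_zero, tv_pv hkz hinv, tv_pv hkz hinv, tv_pv hkz hinv]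
      by_cases h1 : l = k
      · simp [h1, hkz.symm, inv_mul_cancel₀ hk'.1]
      · by_cases h2 : l = z
        · simp [h2, hkz.symm, hz]
        · simp [h1, h2]
    have : (Finset.univ.filter fun l => tv (pv k z 1) (tv (pv k z (v k)⁻¹) v) l ≠ 0 ∧
        tv (pv k z 1) (tv (pv k z (v k)⁻¹) v) l ≠ 1) =
        (Finset.univ.filter fun l => v l ≠ 0 ∧ v l ≠ 1).erase k := by
      ext l
      simp only [Finset.mem_filter, Finset.mem_univ, true_and, Finset.mem_erase, hval]
      by_cases h1 : l = k <;> simp [h1]
    rw [this, Finset.card_erase_of_mem hk, hm]; omega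

end CfsgLib.TwoRadicalSU
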