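import Cfsg.Agent.Lib.TwoRadicalSU.UMod
import Cfsg.Agent.Lib.TwoRadicalSU.Orbit

/-!
# Weight spaces of the monomial subgroup
-/

set_option autoImplicit false
set_option linter.unusedSectionVars false

namespace CfsgLib.TwoRadicalSU

open CfsgLib.TwoRadical Matrix

variable {n : ℕ}

/-- An odd dimension at least five, with five named coordinates. -/
structure Frame (n : ℕ) where
  a : Fin n
  b : Fin n
  c : Fin n
  d : Fin n
  e : Fin n
  nd : [a, b, c, d, e].Nodup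
  odd : Odd n
  big : 5 ≤ n

/-- The first five coordinates. -/
def Frame.std (hn : 5 ≤ n) (ho : Odd n) : Frame n where
  a := ⟨0, by omega⟩
  b := ⟨1, by omega⟩
  c := ⟨2, by omega⟩
  d := ⟨3, by omega⟩
  e := ⟨4, by omega⟩
  nd := by simp [Fin.ext_iff]
  odd := ho
  big := hn

namespace Frame

variable (I : Frame n)

theorem ab : I.a ≠ I.b := by have := I.nd; simp at this; tauto
theorem ac : I.a ≠ I.c := by have := I.nd; simp at this; tauto
theorem ad : I.a ≠ I.d := by have := I.nd; simp at this; tauto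
theorem ae : I.a ≠ I.e := by have := I.nd; simp at this; tauto
theorem bc : I.b ≠ I.c := by have := I.nd; simp at this; tauto
theorem bd : I.b ≠ I.d := by have := I.nd; simp at this; tauto
theorem be : I.b ≠ I.e := by have := I.nd; simp at this; tauto
theorem cd : I.c ≠ I.d := by have := I.nd; simp at this; tauto
theorem ce : I.c ≠ I.e := by have := I.nd; simp at this; tauto
theorem de : I.d ≠ I.e := by have := I.nd; simp at this; tauto

/-- The support of the standard point of weight four. -/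
def S₄ : Finset (Fin n) := {I.a, I.b, I.c, I.d}

theorem mem_S₄ {k : Fin n} : k ∈ I.S₄ ↔ k = I.a ∨ k = I.b ∨ k = I.c ∨ k = I.d := by simp [S₄]

theorem card_S₄ : I.S₄.card = 4 :=
  Finset.card_eq_four.2 ⟨I.a, I.b, I.c, I.d, I.ab, I.ac, I.ad, I.bc, I.bd, I.cd, rfl⟩

/-- The standard point of weight four. -/
def x₀ : Vec n := ind I.S₄

theorem iso_x₀ : Iso I.x₀ :=
  iso_ind (by rw [I.card_S₄]; decide) ⟨I.a, I.mem_S₄.2 (Or.inl rfl)⟩

theorem x₀_e : I.x₀ I.e = 0 := by
  simp [x₀, ind, I.mem_S₄, I.ae.symm, I.be.symm, I.ce.symm, I.de.symm]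

end Frame

namespace UMod

variable {V : Type*} [AddCommGroup V] (M : UMod n V)
include M

theorem fix_U_of_z (I : Frame n) {x : V}
    (hz : M.U I.a I.e (M.U I.b I.e (M.U I.c I.e (M.U I.d I.e x))) = x) : M.U I.a I.b x = x := by
  set y := x + M.U I.a I.b x with hy
  have dcd : M.U I.c I.d y = y := M.disj_fix I.ab I.cd I.ac.symm I.bc.symm I.ad.symm I.bd.symm x
  have dce : M.U I.c I.e y = y := M.disj_fix I.ab I.ce I.ac.symm I.bc.symm I.ae.symm I.be.symm x
  have dde : M.U I.d I.e y = y := M.disj_fix I.ab I.de I.ad.symm I.bd.symm I.ae.symm I.be.symm x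
  have dec : M.U I.e I.c y = y := M.disj_fix I.ab I.ce.symm I.ae.symm I.be.symm I.ac.symm I.bc.symm x
  have hzy : M.U I.a I.e (M.U I.b I.e y) = y := by
    have h1 : M.U I.a I.e (M.U I.b I.e (M.U I.c I.e (M.U I.d I.e (M.U I.a I.b x)))) = M.U I.a I.b x := by
      rw [M.U_comm I.de I.ab, M.U_comm I.ce I.ab, M.U_comm I.be I.ab, M.U_comm I.ae I.ab, hz]
    have h2 : M.U I.a I.e (M.U I.b I.e (M.U I.c I.e (M.U I.d I.e y))) = y := by
      rw [hy, map_add, map_add, map_add, map_add, hz, h1]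
    rwa [dde, dce] at h2
  have hbc : M.U I.b I.c y = M.U I.b I.e y := by rw [M.U_compose I.bc I.ce.symm I.be, dec]
  have h3 := M.disj_fix I.ae I.bc I.ab.symm I.be I.ac.symm I.ce y
  rw [map_add, M.U_comm I.bc I.ae, hbc, hzy, add_comm y (M.U I.a I.e y), add_left_inj] at h3
  have h4 : M.U I.a I.b y = y := by
    rw [M.U_compose I.ab I.be.symm I.ae, M.U_comm I.ae I.be.symm, ← h3, M.U_inv I.be.symm]
  rw [hy, map_add, add_comm x, add_right_inj] at h4
  conv_rhs => rw [← M.U_cube I.ab x, h4]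

theorem z_x₀ (I : Frame n) (x : V) :
    M.U I.a I.e (M.U I.b I.e (M.U I.c I.e (M.U I.d I.e (M.tau I.x₀ x)))) =
      M.tau I.x₀ (M.U I.a I.e (M.U I.b I.e (M.U I.c I.e (M.U I.d I.e x)))) := by
  have hd := fun {i j : Fin n} (h : i ≠ j) {v : Vec n} (hv : Iso v) =>
    (hv.tv (iso_pv h (one_ne_zero (α := GF4))).2).tv (iso_pv h K.w_ne.2.2.2.2).2
  rw [M.U_tau I.de I.iso_x₀, M.U_tau I.ce (hd I.de I.iso_x₀), M.U_tau I.be (hd I.ce (hd I.de I.iso_x₀)),
    M.U_tau I.ae (hd I.be (hd I.ce (hd I.de I.iso_x₀)))]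
  have e : ∀ k, tv (pv I.a I.e (GF4.w ^ 2)) (tv (pv I.a I.e 1) (tv (pv I.b I.e (GF4.w ^ 2)) (tv (pv I.b I.e 1)
      (tv (pv I.c I.e (GF4.w ^ 2)) (tv (pv I.c I.e 1) (tv (pv I.d I.e (GF4.w ^ 2)) (tv (pv I.d I.e 1)
        I.x₀))))))) k = (GF4.w • I.x₀) k := by
    intro k
    rw [Pi.smul_apply, smul_eq_mul]
    by_cases h : k = I.e
    · subst h
      simp [dv_apply I.ae, dv_apply I.be, dv_apply I.ce, dv_apply I.de, I.ae.symm, I.be.symm, I.ce.symm,
        I.de.symm, I.x₀_e]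
    · simp only [dv_apply I.ae, dv_apply I.be, dv_apply I.ce, dv_apply I.de, if_neg h]
      by_cases ha : k = I.a
      · subst ha; simp [I.ab, I.ac, I.ad, I.ae]
      · by_cases hb : k = I.b
        · subst hb; simp [I.ab.symm, I.bc, I.bd, I.be]
        · by_cases hc : k = I.c
          · subst hc; simp [I.ac.symm, I.bc.symm, I.cd, I.ce]
          · by_cases hd : k = I.d
            · subst hd; simp [I.ad.symm, I.bd.symm, I.cd.symm, I.de]
            · simp [ha, hb, hc, hd, Frame.x₀, ind, I.mem_S₄]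
  rw [funext e, M.tau_smul _ _ I.iso_x₀ K.w_ne.1]

theorem eq_zero_of_fix_r (I : Frame n) {x : V} (h : ∀ i j a, i ≠ j → a ≠ 0 → M.r i j a x = x) : x = 0 := by
  have hU : ∀ {i j : Fin n}, i ≠ j → M.U i j x = x := fun hij => M.U_fix_of_r fun a ha => h _ _ a hij ha
  have hy : M.U I.a I.b (x + M.tau I.x₀ x) = x + M.tau I.x₀ x := by
    refine M.fix_U_of_z I ?_
    rw [map_add, map_add, map_add, map_add, M.z_x₀, hU I.de, hU I.ce, hU I.be, hU I.ae]
  have hr : M.r I.a I.b GF4.w (x + M.tau I.x₀ x) = x + M.tau I.x₀ x := M.r_fix_of_U I.ab hy K.w_ne.1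
  have h0 : x + M.tau I.x₀ x = 0 := by
    refine M.A_fix_zero (iso_pv I.ab K.w_ne.1) I.iso_x₀ ?_ (M.step _ I.iso_x₀ x) hr
    rw [hf_pv, Frame.x₀, ind, ind, if_pos (I.mem_S₄.2 (Or.inl rfl)),
      if_pos (I.mem_S₄.2 (Or.inr (Or.inl rfl)))]
    decide +kernel
  refine M.fix_all x fun v hv => ?_
  refine reach I.odd (fun v => M.tau v x = x) (fun v a hv ha h' => by rw [M.tau_smul v a hv ha]; exact h')
    (fun i j a hij ha => h i j a hij ha) I.card_S₄ (M.eq_of_add h0).symm ?_ v hv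
  intro u v hu hv h1 h2
  rw [← M.conj u v hu hv, h1, h2, h1]

/-- The weight space of a coordinate. -/
def Fx (i : Fin n) : AddSubgroup V where
  carrier := {x | ∀ j k a, j ≠ k → j ≠ i → k ≠ i → a ≠ 0 → M.r j k a x = x}
  zero_mem' _ _ _ _ _ _ _ := map_zero _
  add_mem' hx hy j k a h1 h2 h3 h4 := by rw [map_add, hx j k a h1 h2 h3 h4, hy j k a h1 h2 h3 h4]
  neg_mem' hx j k a h1 h2 h3 h4 := by rw [map_neg, hx j k a h1 h2 h3 h4]

variable {i j k : Fin n}

theorem mem_Fx {x : V} : x ∈ M.Fx i ↔ ∀ j k a, j ≠ k → j ≠ i → k ≠ i → a ≠ 0 → M.r j k a x = x := Iff.rfl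

theorem mem_Fx_of_U {x : V} (h : ∀ j k, j ≠ k → j ≠ i → k ≠ i → M.U j k x = x) : x ∈ M.Fx i :=
  fun j k _ h1 h2 h3 ha => M.r_fix_of_U h1 (h j k h1 h2 h3) ha

theorem U_fix_Fx {x : V} (hx : x ∈ M.Fx i) (h1 : j ≠ k) (h2 : j ≠ i) (h3 : k ≠ i) : M.U j k x = x :=
  M.U_fix_of_r fun a ha => hx j k a h1 h2 h3 ha

theorem U_mem_Fx {l : Fin n} {x : V} (hx : x ∈ M.Fx l) (hij : i ≠ j) : M.U i j x ∈ M.Fx l :=
  M.mem_Fx_of_U fun p q h1 h2 h3 => by rw [M.U_comm h1 hij, M.U_fix_Fx hx h1 h2 h3]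

theorem eq_zero_of_Fx (I : Frame n) {x : V} (hx : x ∈ M.Fx i) (hij : i ≠ j) (h : M.U i j x = x) : x = 0 := by
  have hall : ∀ l, i ≠ l → M.U i l x = x := by
    intro l hil
    by_cases hjl : j = l
    · exact hjl ▸ h
    · rw [M.U_compose hil hjl hij, M.U_fix_Fx hx hjl hij.symm hil.symm, h]
  refine M.eq_zero_of_fix_r I fun p q a hpq ha => ?_
  by_cases hp : p = i
  · subst hp; exact M.r_fix_of_U hpq (hall q hpq) ha
  by_cases hq : q = i
  · subst hq
    rw [← M.r_swap hpq ha]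
    exact M.r_fix_of_U hpq.symm (hall p (Ne.symm hp)) (pow_ne_zero 2 ha)
  exact hx p q a hpq hp hq ha

/-- The fixed part under an element of order three. -/
def Nm (i j : Fin n) : V →+ V := AddMonoidHom.id V + M.U i j + (M.U i j).comp (M.U i j)

/-- The moved part under an element of order three. -/
def Em (i j : Fin n) : V →+ V := M.U i j + (M.U i j).comp (M.U i j)

theorem Nm_apply (x : V) : M.Nm i j x = x + M.U i j x + M.U i j (M.U i j x) := rfl

theorem Em_apply (x : V) : M.Em i j x = M.U i j x + M.U i j (M.U i j x) := rfl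

theorem Em_add_Nm (x : V) : M.Em i j x + M.Nm i j x = x := by
  rw [Em_apply, Nm_apply, add_assoc x, ← add_assoc _ x, add_comm _ x, add_assoc, M.add_self, add_zero]

theorem U_Nm (h : i ≠ j) (x : V) : M.U i j (M.Nm i j x) = M.Nm i j x := by
  rw [Nm_apply, map_add, map_add, M.U_cube h]; abel

theorem U_comm_Nm {p q : Fin n} (h : p ≠ q) (hij : i ≠ j) (x : V) :
    M.U p q (M.Nm i j x) = M.Nm i j (M.U p q x) := by
  simp only [Nm_apply, map_add, M.U_comm h hij]

theorem U_comm_Em {p q : Fin n} (h : p ≠ q) (hij : i ≠ j) (x : V) :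
    M.U p q (M.Em i j x) = M.Em i j (M.U p q x) := by
  simp only [Em_apply, map_add, M.U_comm h hij]

theorem Em_comm {p q : Fin n} (hij : i ≠ j) (hpq : p ≠ q) (x : V) :
    M.Em i j (M.Em p q x) = M.Em p q (M.Em i j x) := by
  simp only [Em_apply, map_add, M.U_comm hij hpq]
  abel

theorem Em_fixed {p q : Fin n} (hij : i ≠ j) (hpq : p ≠ q) (hpi : p ≠ i) (hpj : p ≠ j) (hqi : q ≠ i)
    (hqj : q ≠ j) (x : V) : M.U p q (M.Em i j x) = M.Em i j x :=
  M.disj_fix hij hpq hpi hpj hqi hqj (M.U i j x)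

theorem exists_off' (I : Frame n) (i j k : Fin n) : ∃ l : Fin n, l ≠ i ∧ l ≠ j ∧ l ≠ k := by
  by_contra h
  push Not at h
  have hsub : (Finset.univ : Finset (Fin n)) ⊆ {i, j, k} := fun l _ => by
    simp only [Finset.mem_insert, Finset.mem_singleton]
    tauto
  have := (Finset.card_le_card hsub).trans Finset.card_le_three
  have := I.big
  simp at *
  omega

theorem split_pair (I : Frame n) (hij : i ≠ j) {y : V}
    (hy : ∀ p q, p ≠ q → p ≠ i → p ≠ j → q ≠ i → q ≠ j → M.U p q y = y) :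
    y ∈ M.Fx i ⊔ M.Fx j := by
  obtain ⟨k, hki, hkj, -⟩ := M.exists_off' I i j j
  rw [← M.Em_add_Nm (i := i) (j := k) y]
  refine AddSubgroup.add_mem_sup (M.mem_Fx_of_U fun p q hpq hpi hqi => ?_) (M.mem_Fx_of_U fun p q hpq hpj hqj => ?_)
  · have base : ∀ p q, p ≠ q → p ≠ i → q ≠ i → (p ≠ j ∧ q ≠ j) ∨ (p ≠ k ∧ q ≠ k) →
        M.U p q (M.Em i k y) = M.Em i k y := by
      intro p q hpq hpi hqi h
      rcases h with ⟨h1, h2⟩ | ⟨h1, h2⟩
      · rw [M.U_comm_Em hpq hki.symm, hy p q hpq hpi h1 hqi h2]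
      · exact M.Em_fixed hki.symm hpq hpi h1 hqi h2 y
    by_cases h1 : p ≠ j ∧ q ≠ j
    · exact base p q hpq hpi hqi (Or.inl h1)
    by_cases h2 : p ≠ k ∧ q ≠ k
    · exact base p q hpq hpi hqi (Or.inr h2)
    obtain ⟨l, hli, hlj, hlk⟩ := M.exists_off' I i j k
    have hcase : (p = j ∧ q = k) ∨ (p = k ∧ q = j) := by
      rw [not_and_or, not_ne_iff, not_ne_iff] at h1 h2
      rcases h1 with rfl | rfl <;> rcases h2 with h2 | h2 <;> first
        | exact absurd h2 hkj.symm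
        | exact Or.inl ⟨rfl, h2⟩
        | exact Or.inr ⟨h2, rfl⟩
        | exact absurd h2.symm hpq
        | exact absurd h2 hpq
    rcases hcase with ⟨rfl, rfl⟩ | ⟨rfl, rfl⟩
    · rw [M.U_compose hpq hlk hlj.symm, base l q hlk hli hki (Or.inl ⟨hlj, hkj⟩),
        base p l hlj.symm hij.symm hli (Or.inr ⟨hkj.symm, hlk⟩)]
    · rw [M.U_compose hpq hlj hlk.symm, base l q hlj hli hij.symm (Or.inr ⟨hlk, hkj.symm⟩),
        base p l hlk.symm hki hli (Or.inl ⟨hkj, hlj⟩)]
  · have hk : M.U i k (M.Nm i k y) = M.Nm i k y := M.U_Nm hki.symm y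
    have base : ∀ p q, p ≠ q → p ≠ i → p ≠ j → q ≠ i → q ≠ j → M.U p q (M.Nm i k y) = M.Nm i k y :=
      fun p q h h1 h2 h3 h4 => by rw [M.U_comm_Nm h hki.symm, hy p q h h1 h2 h3 h4]
    have hi' : ∀ l, i ≠ l → l ≠ j → M.U i l (M.Nm i k y) = M.Nm i k y := by
      intro l hil hlj
      by_cases hkl : k = l
      · exact hkl ▸ hk
      · rw [M.U_compose hil hkl hki.symm, base k l hkl hki hkj hil.symm hlj, hk]
    by_cases hp : p = i
    · subst hp; exact hi' q hpq hqj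
    by_cases hq : q = i
    · subst hq
      conv_lhs => rw [← hi' p hpq.symm hpj]
      exact M.U_inv hpq _
    exact base p q hpq hp hpj hq hqj

theorem mem_iSup_Fx (I : Frame n) (x : V) : x ∈ ⨆ i, M.Fx i := by
  suffices h : ∀ (l : List (Fin n)) (x : V), (∀ j, j ∉ l → I.a ≠ j → M.U I.a j x = x) → x ∈ ⨆ i, M.Fx i from
    h (List.finRange n) x fun j hj => absurd (List.mem_finRange j) hj
  intro l
  induction l with
  | nil =>
    intro x h
    have h' : ∀ j, I.a ≠ j → M.U I.a j x = x := fun j hj => h j List.not_mem_nil hj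
    have : x = 0 := M.eq_zero_of_fix_r I fun p q a hpq ha => by
      refine M.r_fix_of_U hpq ?_ ha
      by_cases hp : p = I.a
      · subst hp; exact h' q hpq
      have hpa : M.U p I.a x = x := by
        conv_lhs => rw [← h' p (Ne.symm hp)]
        exact M.U_inv hp x
      by_cases hq : q = I.a
      · rw [hq]; exact hpa
      rw [M.U_compose hpq (Ne.symm hq) hp, h' q (Ne.symm hq), hpa]
    rw [this]; exact zero_mem _
  | cons m l ih =>
    intro x h
    by_cases hm : I.a = m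
    · exact ih x fun j hj haj => h j (by simp [hj]; exact fun e => haj (hm.trans e.symm)) haj
    rw [← M.Em_add_Nm (i := I.a) (j := m) x]
    refine add_mem ?_ (ih _ fun j hj haj => ?_)
    · refine (sup_le (le_iSup M.Fx I.a) (le_iSup M.Fx m)) (M.split_pair I hm fun p q h1 h2 h3 h4 h5 => ?_)
      exact M.Em_fixed hm h1 h2 h3 h4 h5 x
    · by_cases hjm : j = m
      · subst hjm; exact M.U_Nm hm x
      · rw [M.U_comm_Nm haj hm, h j (by simp [hjm, hj]) haj]

theorem Em_eq_self (I : Frame n) (hij : i ≠ j) {x : V} (hx : x ∈ M.Fx i) : M.Em i j x = x := by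
  have h0 : M.Nm i j x = 0 := by
    refine M.eq_zero_of_Fx I ?_ hij (M.U_Nm hij x)
    exact add_mem (add_mem hx (M.U_mem_Fx hx hij)) (M.U_mem_Fx (M.U_mem_Fx hx hij) hij)
  conv_rhs => rw [← M.Em_add_Nm (i := i) (j := j) x, h0, add_zero]

theorem Em_eq_zero (hij : i ≠ j) (hki : k ≠ i) (hkj : k ≠ j) {x : V} (hx : x ∈ M.Fx k) : M.Em i j x = 0 := by
  rw [Em_apply, M.U_fix_Fx hx hij hki.symm hkj.symm, M.U_fix_Fx hx hij hki.symm hkj.symm, M.add_self]

theorem eq_zero_of_sum (I : Frame n) (f : Fin n → V) (hf' : ∀ i, f i ∈ M.Fx i) (h : ∑ i, f i = 0) :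
    f = 0 := by
  funext i
  obtain ⟨j, hji, -, -⟩ := M.exists_off' I i i i
  obtain ⟨k, hki, hkj, -⟩ := M.exists_off' I i j j
  have h1 := congrArg (fun y => M.Em i k (M.Em i j y)) h
  simp only [map_sum, map_zero] at h1
  rw [Finset.sum_eq_single i, M.Em_eq_self I hji.symm (hf' i), M.Em_eq_self I hki.symm (hf' i)] at h1
  · exact h1
  · intro l _ hl
    by_cases hlj : l = j
    · subst hlj
      rw [M.Em_comm hki.symm hji.symm, M.Em_eq_zero hki.symm hl (Ne.symm hkj) (hf' l), map_zero]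
    · rw [M.Em_eq_zero hji.symm hl hlj (hf' l), map_zero]
  · simp

end UMod

end CfsgLib.TwoRadicalSU
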