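import Cfsg.Agent.Lib.TwoRadicalSU.Special

/-!
# All transvections act through the matrices up to a semilinear nilpotent part
-/

set_option autoImplicit false
set_option linter.unusedSectionVars false

namespace CfsgLib.TwoRadicalSU

open CfsgLib.TwoRadical CfsgLib.ClassicalGroups Matrix

theorem tEl_entry {n : ℕ} {v : Vec n} (hv : hf v v = 0) (i j : Fin n) :
    (tEl v).1.1 i j = (if i = j then 1 else 0) + v i * v j ^ 2 := by
  have h := congrFun (tEl_apply hv (Pi.single j 1)) i
  rw [Matrix.mulVec_single_one] at h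
  rw [show (tEl v).1.1 i j = ((tEl v).1.1)ᵀ j i from rfl]
  refine h.trans ?_
  rw [tv, Pi.add_apply, Pi.smul_apply, smul_eq_mul, hf_symm v, hf_single, Pi.single_apply, mul_comm]

namespace UMod

variable {n : ℕ} {V : Type*} [AddCommGroup V] (M : UMod n V) (I : Frame n)

theorem sm_sum {ι : Type*} (s : Finset ι) (a : ι → GF4) (x : M.W I) :
    M.sm I (∑ i ∈ s, a i) x = ∑ i ∈ s, M.sm I (a i) x := by
  classical
  induction s using Finset.induction_on with
  | empty => simp [sm_zero]
  | insert k s hk ih => rw [Finset.sum_insert hk, Finset.sum_insert hk, sm_add, ih]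

/-- `g` acts as `A` up to a semilinear nilpotent part. -/
def Fm (g : V → V) (A : Matrix (Fin n) (Fin n) GF4) : Prop :=
  ∃ X : Matrix (Fin n) (Fin n) GF4, ∀ f : Fin n → M.W I,
    g (M.Ψ I f) = M.Ψ I (fun i => ∑ j, (M.sm I (A i j) (f j) + M.sm I (X i j) (M.eps I (f j))))

theorem Fm.one : M.Fm I id 1 := by
  refine ⟨0, fun f => congrArg (M.Ψ I) (funext fun i => ?_)⟩
  rw [Finset.sum_eq_single i]
  · simp [sm_one, sm_zero]
  · intro j _ hj; simp [Matrix.one_apply_ne (Ne.symm hj), sm_zero]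
  · simp

theorem Fm.comp {g h : V → V} {A B : Matrix (Fin n) (Fin n) GF4} (hg : M.Fm I g A) (hh : M.Fm I h B) :
    M.Fm I (g ∘ h) (A * B) := by
  obtain ⟨X, hX⟩ := hg
  obtain ⟨Y, hY⟩ := hh
  refine ⟨A * Y + X * B.map (fun a => a ^ 2), fun f => ?_⟩
  show g (h _) = _
  rw [hY, hX]
  refine congrArg (M.Ψ I) (funext fun i => ?_)
  simp only [map_sum, map_add, ← Finset.sum_add_distrib, eps_sm, eps_eps, map_zero, add_zero, ← sm_mul,
    Matrix.mul_apply, Matrix.add_apply, Matrix.map_apply, sm_add, sm_sum]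
  rw [Finset.sum_comm]
  simp only [add_assoc]

theorem Fm.congr {g h : V → V} {A : Matrix (Fin n) (Fin n) GF4} (hg : M.Fm I g A) (e : ∀ x, g x = h x) :
    M.Fm I h A := by
  obtain ⟨X, hX⟩ := hg
  exact ⟨X, fun f => (e _).symm.trans (hX f)⟩

theorem natural_sum (v : Vec n) (hv : hf v v = 0) (f : Fin n → M.W I) (i : Fin n) :
    ∑ j, M.sm I ((tEl v).1.1 i j) (f j) = f i + M.sm I (v i) (∑ j, M.sm I (v j ^ 2) (f j)) := by
  simp only [tEl_entry hv, sm_add, Finset.sum_add_distrib, map_sum, ← sm_mul]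
  congr 1
  rw [Finset.sum_eq_single i]
  · rw [if_pos rfl, sm_one]
  · intro j _ hj; rw [if_neg (Ne.symm hj), sm_zero]
  · simp

theorem Fm.r {i j : Fin n} (hij : i ≠ j) {a : GF4} (ha : a ≠ 0) :
    M.Fm I (M.r i j a) (tEl (pv i j a)).1.1 := by
  refine ⟨0, fun f => ?_⟩
  rw [M.r_Ψ' I hij ha]
  refine congrArg (M.Ψ I) (funext fun k => ?_)
  simp only [Matrix.zero_apply, sm_zero, add_zero]
  rw [M.natural_sum I _ (iso_pv hij ha).2, rf_apply]
  have hsum : ∑ l, M.sm I (pv i j a l ^ 2) (f l) = f i + M.sm I (a ^ 2) (f j) := by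
    rw [← Finset.sum_subset (Finset.subset_univ ({i, j} : Finset (Fin n))) (fun l _ hl => by
      simp only [Finset.mem_insert, Finset.mem_singleton, not_or] at hl
      rw [pv_other hl.1 hl.2, zero_pow two_ne_zero, sm_zero]), Finset.sum_pair hij, pv_left hij, pv_right hij,
      one_pow, sm_one]
  rw [hsum]
  by_cases hi : k = i
  · rw [if_pos hi, hi, pv_left hij, sm_one, ← add_assoc, M.W_add_self I, zero_add]
  rw [if_neg hi]
  by_cases hj : k = j
  · rw [if_pos hj, hj, pv_right hij, map_add, ← sm_mul, K.cube a ha, sm_one, add_left_comm, M.W_add_self I,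
      add_zero]
  · rw [if_neg hj, pv_other hi hj, sm_zero, add_zero]

theorem Fm.x₀ : M.Fm I (M.tau I.x₀) (tEl I.x₀).1.1 := by
  refine ⟨Matrix.of fun i j => if (i ∈ I.S₄ ∧ j = I.e) ∨ (i = I.e ∧ j ∈ I.S₄) then 1 else 0, fun f => ?_⟩
  rw [M.tau_Ψ I]
  refine congrArg (M.Ψ I) (funext fun i => ?_)
  rw [Pi.add_apply, Finset.sum_add_distrib, M.natural_sum I _ I.iso_x₀.2, M.phi_formula I]
  have hsum : ∑ j, M.sm I (I.x₀ j ^ 2) (f j) = ∑ p ∈ I.S₄, f p := by
    rw [← Finset.sum_subset (Finset.subset_univ I.S₄) fun j _ hj => by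
      simp [Frame.x₀, ind, hj, sm_zero]]
    exact Finset.sum_congr rfl fun p hp => by simp [Frame.x₀, ind, hp, sm_one]
  rw [hsum, add_assoc]
  congr 1
  by_cases hi : i ∈ I.S₄
  · have hie : i ≠ I.e := fun h => not_mem_S₄ I (h ▸ hi)
    rw [if_pos hi, show I.x₀ i = 1 by simp [Frame.x₀, ind, hi], sm_one]
    congr 1
    rw [Finset.sum_eq_single I.e]
    · simp [hi, sm_one]
    · intro j _ hj; simp [hie, hj, sm_zero]
    · simp
  rw [if_neg hi]
  have hx : I.x₀ i = 0 := by simp [Frame.x₀, ind, hi]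
  rw [hx, sm_zero, zero_add]
  by_cases he : i = I.e
  · rw [if_pos he, map_sum, ← Finset.sum_subset (Finset.subset_univ I.S₄) fun j _ hj => by
      simp [hi, hj, sm_zero]]
    exact Finset.sum_congr rfl fun p hp => by simp [he, hp, sm_one]
  · rw [if_neg he]
    exact (Finset.sum_eq_zero fun j _ => by simp [hi, he, sm_zero]).symm

/-- Every transvection acts with the expected linear part. -/
theorem forms (v : Vec n) (hv : Iso v) : M.Fm I (M.tau v) (tEl v).1.1 := by
  refine reach I.odd (fun v => M.Fm I (M.tau v) (tEl v).1.1) ?_ (fun i j a hij ha => Fm.r M I hij ha)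
    I.card_S₄ (Fm.x₀ M I) ?_ v hv
  · intro v a hv ha h
    rw [M.tau_smul v a hv ha, tEl_smul hv.2 ha]; exact h
  · intro u v hu hv h1 h2
    rw [← conj_tEl_tEl hu.2 hv.2]
    show M.Fm I _ ((tEl u).1.1 * (tEl v).1.1 * (tEl u).1.1)
    exact ((h1.comp M I h2).comp M I h1).congr M I fun x => M.conj u v hu hv x

/-- A map commuting with the diagonal elements whose linear part is trivial is trivial. -/
theorem rigid {g : V → V} (hg : M.Fm I g 1) (hU : ∀ i j, i ≠ j → ∀ x, g (M.U i j x) = M.U i j (g x))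
    (x : V) : g x = x := by
  obtain ⟨X, hX⟩ := hg
  have hval : ∀ j (w : M.W I) i, (∑ l, (M.sm I ((1 : Matrix (Fin n) (Fin n) GF4) i l) (Pi.single (M := fun _ => M.W I) j w l) +
      M.sm I (X i l) (M.eps I (Pi.single (M := fun _ => M.W I) j w l)))) =
      (if i = j then w else 0) + M.sm I (X i j) (M.eps I w) := by
    intro j w i
    rw [Finset.sum_eq_single j]
    · rw [Pi.single_eq_same]
      split_ifs with h
      · rw [h, Matrix.one_apply_eq, sm_one]
      · rw [Matrix.one_apply_ne h, sm_zero]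
    · intro l _ hl; rw [Pi.single_eq_of_ne hl]; simp
    · simp
  have zero : ∀ i j (w : M.W I), M.sm I (X i j) (M.eps I w) = 0 := by
    intro i j w
    obtain ⟨q, hqj, hqi, -⟩ := M.exists_off' I j i i
    have e := hU j q hqj.symm (M.Ψ I (Pi.single j w))
    have hs : M.U j q (M.Ψ I (Pi.single j w)) = M.Ψ I (Pi.single j (M.sm I GF4.w w)) := by
      rw [M.U_Ψ I hqj.symm]
      congr 1
      funext k
      by_cases hk : k = j
      · subst hk; simp
      · simp [hk]
    rw [hs, hX, hX, M.U_Ψ I hqj.symm] at e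
    have e' := congrFun ((M.Ψ_bijective I).1 e) i
    simp only [hval, eps_sm, ← sm_mul] at e'
    by_cases hij : i = j
    · subst hij
      simp only [if_pos, map_add, ← sm_mul, add_right_inj] at e'
      have h0 : M.sm I (X i i * GF4.w ^ 2 + GF4.w * X i i) (M.eps I w) = 0 := by
        rw [sm_add, e', M.W_add_self I]
      rwa [mul_comm GF4.w, ← mul_add, add_comm, K.w_rel.1, mul_one] at h0
    · simp only [if_neg hij, if_neg hqi.symm, zero_add] at e'
      have h0 : M.sm I (X i j * GF4.w ^ 2 + X i j) (M.eps I w) = 0 := by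
        rw [sm_add, e', M.W_add_self I]
      rw [← mul_one (X i j)] at h0
      rw [mul_one, ← mul_add_one, add_comm, K.w_rel.2.2.1, mul_comm, sm_mul] at h0
      have := congrArg (M.sm I (GF4.w ^ 2)) h0
      rwa [M.sm_inv I K.w_ne.1, map_zero] at this
  obtain ⟨f, rfl⟩ := (M.Ψ_bijective I).2 x
  rw [hX]
  refine congrArg (M.Ψ I) (funext fun i => ?_)
  rw [Finset.sum_eq_single i]
  · rw [Matrix.one_apply_eq, sm_one, zero, add_zero]
  · intro j _ hj; rw [Matrix.one_apply_ne (Ne.symm hj), sm_zero, zero, add_zero]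
  · simp

end UMod

end CfsgLib.TwoRadicalSU
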