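import Cfsg.Agent.Lib.TwoRadicalSU.Class
import Cfsg.Agent.Lib.TwoRadical.Construct

/-!
# The 2-radical when the quotient is `SU(n,2)`
-/

set_option autoImplicit false
set_option linter.unusedSectionVars false

namespace CfsgLib.TwoRadicalSU

open Cfsg CfsgLib.TwoRadical CfsgLib.ClassicalGroups CfsgLib.ThreeTrans Matrix

universe u

variable {n : ℕ} {G : Type u} [Group G] [Finite G]

/-- The hypotheses. -/
structure Setup (n : ℕ) (G : Type u) [Group G] [Finite G] where
  D : Set G
  cls : IsThreeTranspositionClass D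
  center : Subgroup.center G = ⊥
  π : G →* SUn n
  surj : Function.Surjective π
  ker : π.ker = pCore 2 G
  big : 5 ≤ n

namespace Setup

variable (S : Setup n G)

theorem closed : ConjClosed S.D := conjClosed_of_class S.cls

theorem mem_pCore_iff {g : G} : g ∈ pCore 2 G ↔ S.π g = 1 := by rw [← S.ker, MonoidHom.mem_ker]

theorem eq_one_of_pow_three (_S : Setup n G) {g : G} (hg : g ∈ pCore 2 G) (h3 : g ^ 3 = 1) : g = 1 :=
  haveI : Fact (Nat.Prime 2) := ⟨Nat.prime_two⟩
  eq_one_of_mem_pGroup Nat.prime_two Nat.prime_three (by norm_num)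
    (CfsgLib.PCore.pCore_isPGroup (G := G) (p := 2)) hg h3

theorem image_eq : S.π '' S.D = {A | ∃ v, Iso v ∧ A = tEl v} := by
  obtain ⟨i, j, hij⟩ : ∃ i j : Fin n, i ≠ j :=
    ⟨⟨0, by have := S.big; omega⟩, ⟨1, by have := S.big; omega⟩, fun h => by simp [Fin.ext_iff] at h⟩
  have hne : ∀ d ∈ S.D, S.π d ≠ 1 := by
    intro d hd h1
    have hker : S.π.ker = ⊤ := top_unique (S.cls.2.2 ▸ (Subgroup.closure_le _).2 fun x hx => by
      obtain ⟨g, rfl⟩ := class_conj S.cls hd hx
      exact (MonoidHom.mem_ker).2 (by rw [map_mul, map_mul, h1, mul_one, map_inv, mul_inv_cancel]))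
    obtain ⟨g, hg⟩ := S.surj (tEl (pv i j 1))
    have : g ∈ S.π.ker := hker ▸ Subgroup.mem_top g
    exact tEl_ne_one (iso_pv hij one_ne_zero) (hg.symm.trans this)
  refine class_eq ⟨?_, ?_⟩ ?_ ?_
  · rintro _ ⟨d, hd, rfl⟩
    exact orderOf_eq_prime (by rw [← map_pow, pow_two, mul_self S.cls.1 hd, map_one]) (hne d hd)
  · rintro _ ⟨d, hd, rfl⟩ _ ⟨e, he, rfl⟩
    rw [← map_mul, ← map_pow, ← map_pow]
    rcases S.cls.1.2 d hd e he with h | h
    · exact Or.inl (by rw [h, map_one])
    · exact Or.inr (by rw [h, map_one])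
  · rintro g _ ⟨d, hd, rfl⟩
    obtain ⟨g, rfl⟩ := S.surj g
    exact ⟨g * d * g⁻¹, S.closed.conj g d hd, by simp⟩
  · obtain ⟨-, ⟨d, hd, -⟩, -⟩ := S.cls
    exact ⟨_, d, hd, rfl⟩

theorem exists_vec {d : G} (hd : d ∈ S.D) : ∃ v, Iso v ∧ S.π d = tEl v := by
  have : S.π d ∈ S.π '' S.D := ⟨d, hd, rfl⟩
  rwa [S.image_eq] at this

theorem exists_lift {v : Vec n} (hv : Iso v) : ∃ d ∈ S.D, S.π d = tEl v := by
  have : tEl v ∈ S.π '' S.D := by rw [S.image_eq]; exact ⟨v, hv, rfl⟩
  exact this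

theorem commute_of_img {d e : G} (hd : d ∈ S.D) (he : e ∈ S.D) (h : Commute (S.π d) (S.π e)) :
    Commute d e := by
  by_contra hne
  have hs := S.cls.1
  have h3 := pow_three_of_not_commute hs hd he hne
  have h2 : S.π (d * e) ^ 2 = 1 := by
    rw [map_mul, h.mul_pow, pow_two, pow_two, ← map_mul, ← map_mul, mul_self hs hd, mul_self hs he, map_one,
      one_mul]
  have h3' : S.π (d * e) ^ 3 = 1 := by rw [← map_pow, h3, map_one]
  rw [pow_succ, h2, one_mul, ← S.mem_pCore_iff] at h3'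
  have := S.eq_one_of_pow_three h3' h3
  rw [mul_eq_one_iff_eq' hs he] at this
  exact hne (this ▸ Commute.refl d)

theorem commute_of_perp_img {d e : G} (hd : d ∈ S.D) (he : e ∈ S.D) {u v : Vec n} (hu : S.π d = tEl u)
    (hv : S.π e = tEl v) (hu' : Iso u) (hv' : Iso v) (h : hf u v = 0) : Commute d e :=
  S.commute_of_img hd he (by rw [hu, hv]; exact commute_of_perp hu'.2 hv'.2 h)

theorem perp_of_img_commute {d e : G} {u v : Vec n} (hu : S.π d = tEl u) (hv : S.π e = tEl v) (hu' : Iso u)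
    (hv' : Iso v) (h : Commute d e) : hf u v = 0 :=
  perp_of_commute hu' hv' (hu ▸ hv ▸ h.map S.π)

/-- Products of two members over the same point. -/
def A (v : Vec n) : Subgroup G :=
  Subgroup.closure {x | ∃ d ∈ S.D, ∃ d' ∈ S.D, S.π d = tEl v ∧ S.π d' = tEl v ∧ x = d * d'}

theorem mul_mem_A {v : Vec n} {d d' : G} (hd : d ∈ S.D) (hd' : d' ∈ S.D) (h : S.π d = tEl v)
    (h' : S.π d' = tEl v) : d * d' ∈ S.A v := Subgroup.subset_closure ⟨d, hd, d', hd', h, h', rfl⟩

theorem A_le (v : Vec n) : S.A v ≤ pCore 2 G := by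
  rw [A, Subgroup.closure_le]
  rintro _ ⟨d, hd, d', hd', h, h', rfl⟩
  rw [SetLike.mem_coe, S.mem_pCore_iff, map_mul, h, ← h', ← map_mul, mul_self S.cls.1 hd', map_one]

theorem A_smul {v : Vec n} (hv : Iso v) {a : GF4} (ha : a ≠ 0) : S.A (a • v) = S.A v := by
  simp only [A, tEl_smul hv.2 ha]

theorem A_fixed {v u : Vec n} (hv : Iso v) (hu : Iso u) (h : hf u v = 0) {c : G} (hc : c ∈ S.D)
    (hcu : S.π c = tEl u) {x : G} (hx : x ∈ S.A v) : Commute c x := by
  induction hx using Subgroup.closure_induction with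
  | mem x hx =>
    obtain ⟨d, hd, d', hd', hdv, hdv', rfl⟩ := hx
    exact (S.commute_of_perp_img hc hd hcu hdv hu hv h).mul_right (S.commute_of_perp_img hc hd' hcu hdv' hu hv h)
  | one => exact Commute.one_right c
  | mul x y _ _ ihx ihy => exact ihx.mul_right ihy
  | inv x _ ih => exact ih.inv_right

theorem A_commute {u v : Vec n} (hu : Iso u) (hv : Iso v) (h : hf u v = 0) {x y : G} (hx : x ∈ S.A u)
    (hy : y ∈ S.A v) : Commute x y := by
  induction hx using Subgroup.closure_induction with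
  | mem x hx =>
    obtain ⟨d, hd, d', hd', hdv, hdv', rfl⟩ := hx
    exact (S.A_fixed hv hu h hd hdv hy).mul_left (S.A_fixed hv hu h hd' hdv' hy)
  | one => exact Commute.one_left y
  | mul a b _ _ iha ihb => exact iha.mul_left ihb
  | inv a _ ih => exact ih.inv_left

theorem A_sq {v : Vec n} (hv : Iso v) {x : G} (hx : x ∈ S.A v) : x * x = 1 := by
  induction hx using Subgroup.closure_induction with
  | mem x hx =>
    obtain ⟨d, hd, d', hd', hdv, hdv', rfl⟩ := hx
    have hc := S.commute_of_perp_img hd hd' hdv hdv' hv hv hv.2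
    rw [hc.symm.mul_mul_mul_comm, mul_self S.cls.1 hd, mul_self S.cls.1 hd', one_mul]
  | one => rw [one_mul]
  | mul a b ha hb iha ihb => rw [(S.A_commute hv hv hv.2 hb ha).mul_mul_mul_comm, iha, ihb, one_mul]
  | inv a _ ih => rw [← _root_.mul_inv_rev, ih, inv_one]

theorem conj_A (g : G) {v : Vec n} (hv : Iso v) {x : G} (hx : x ∈ S.A v) :
    g * x * g⁻¹ ∈ S.A ((S.π g).1.1 *ᵥ v) := by
  induction hx using Subgroup.closure_induction with
  | mem x hx =>
    obtain ⟨d, hd, d', hd', hdv, hdv', rfl⟩ := hx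
    rw [show g * (d * d') * g⁻¹ = g * d * g⁻¹ * (g * d' * g⁻¹) by group]
    refine S.mul_mem_A (S.closed.conj g d hd) (S.closed.conj g d' hd') ?_ ?_ <;>
      rw [map_mul, map_mul, map_inv]
    · rw [hdv, conj_tEl _ hv.2]
    · rw [hdv', conj_tEl _ hv.2]
  | one => simp
  | mul a b _ _ iha ihb => simpa [mul_assoc] using mul_mem iha ihb
  | inv a _ ih => simpa [mul_assoc] using inv_mem ih

/-- A member conjugates the groups of products along the transvection. -/
theorem conj_A_tv {c : G} (hc : c ∈ S.D) {u v : Vec n} (hu : Iso u) (hcu : S.π c = tEl u) (hv : Iso v)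
    {x : G} (hx : x ∈ S.A v) : c * x * c ∈ S.A (tv u v) := by
  have h := S.conj_A c hv hx
  rwa [hcu, tEl_apply hu.2, inv_eq S.cls.1 hc] at h

section Meet

variable {z : G}

/-- The isotropic points whose products contain `z`. -/
def Has (z : G) (v : Vec n) : Prop := Iso v ∧ z ∈ S.A v

theorem Has.move {p q w : Vec n} (hp : S.Has z p) (hq : S.Has z q) (hw : Iso w) (h : hf q w = 0) :
    S.Has z (tv w p) := by
  refine ⟨hp.1.tv hw.2, ?_⟩
  obtain ⟨c, hc, hcw⟩ := S.exists_lift hw
  have h1 := S.conj_A_tv hc hw hcw hp.1 hp.2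
  rwa [(S.A_fixed hq.1 hw (hf_zero_symm h) hc hcw hq.2).eq, mul_assoc, mul_self S.cls.1 hc, mul_one] at h1

theorem eq_one_of_perp (h : ∀ w, Iso w → ∃ q, S.Has z q ∧ hf q w = 0) : z = 1 := by
  have hmem : z ∈ Subgroup.center G := mem_center_of_commute S.cls.2.2 fun d hd => by
    obtain ⟨w, hw, hdw⟩ := S.exists_vec hd
    obtain ⟨q, hq, hqw⟩ := h w hw
    exact (S.A_fixed hq.1 hw (hf_zero_symm hqw) hd hdw hq.2).symm
  rwa [S.center, Subgroup.mem_bot] at hmem

end Meet

end Setup

theorem key_two : ∀ a b : GF4, a + b = 1 → a * a ^ 2 + b * b ^ 2 = 0 →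
    (a = GF4.w ∧ b = GF4.w ^ 2) ∨ (a = GF4.w ^ 2 ∧ b = GF4.w) := by decide +kernel

theorem key_fix : ∀ a b : GF4, a + b = 1 → a * a ^ 2 + b * b ^ 2 = 1 →
    (a + GF4.w ^ 2) * (a + GF4.w ^ 2) ^ 2 + (b + GF4.w ^ 2) * (b + GF4.w ^ 2) ^ 2 = 0 := by decide +kernel

theorem key_line : ∀ a b c d : GF4, a + b ≠ 0 → a * c ^ 2 + b * d ^ 2 ≠ 0 →
    a * (c + 1) ^ 2 + b * (d + 1) ^ 2 ≠ 0 → c + d = 1 → c * c ^ 2 + d * d ^ 2 = 0 →
      a * a ^ 2 + b * b ^ 2 ≠ 0 := by decide +kernel

theorem key_choose : ∀ a b : GF4, a ≠ 0 → ∃ c : GF4, c ≠ 0 ∧ a + c ^ 2 * b ≠ 0 := by decide +kernel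

/-- The vector with the first two coordinates deleted. -/
def rest (i j : Fin n) (y : Vec n) : Vec n := fun k => if k = i ∨ k = j then 0 else y k

theorem hf_split {i j : Fin n} (hij : i ≠ j) (y : Vec n) :
    hf y y = y i * y i ^ 2 + y j * y j ^ 2 + hf (rest i j y) (rest i j y) := by
  have e : ∀ k, y k * y k ^ 2 = (if k = i then y k * y k ^ 2 else 0) + (if k = j then y k * y k ^ 2 else 0) +
      rest i j y k * rest i j y k ^ 2 := fun k => by
    by_cases h1 : k = i
    · simp [rest, h1, hij]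
    · by_cases h2 : k = j
      · simp [rest, h2, hij.symm]
      · simp [rest, h1, h2]
  show ∑ k, y k * y k ^ 2 = _
  rw [Finset.sum_congr rfl fun k _ => e k]
  simp only [Finset.sum_add_distrib, Finset.sum_ite_eq', Finset.mem_univ, if_true]
  rfl

theorem exists_off (hn : 5 ≤ n) (i j k : Fin n) : ∃ l : Fin n, l ≠ i ∧ l ≠ j ∧ l ≠ k := by
  by_contra h
  push Not at h
  have hsub : (Finset.univ : Finset (Fin n)) ⊆ {i, j, k} := fun l _ => by
    simp only [Finset.mem_insert, Finset.mem_singleton]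
    tauto
  have := (Finset.card_le_card hsub).trans Finset.card_le_three
  simp at this
  omega

namespace Setup

variable (S : Setup n G)

theorem meet_std {i j : Fin n} (hij : i ≠ j) {y : Vec n} (hy : Iso y) (hyx : hf y (pv i j 1) = 1) {z : G}
    (hzx : z ∈ S.A (pv i j 1)) (hzy : z ∈ S.A y) : z = 1 := by
  set x := pv i j (1 : GF4) with hx
  have hxi : Iso x := iso_pv hij one_ne_zero
  have Hx : S.Has z x := ⟨hxi, hzx⟩
  have hsum : ∀ y : Vec n, hf y x = y i + y j := fun y => by rw [hx, hf_pv, one_pow, one_mul]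
  have xval : ∀ k, k ≠ i → k ≠ j → x k = 0 := fun k h1 h2 => pv_other h1 h2 _
  -- translating by an isotropic vector supported away from the two coordinates
  have move : ∀ {y w : Vec n}, S.Has z y → hf w w = 0 → w i = 0 → w j = 0 →
      S.Has z (y + hf y (x + w) • (x + w)) := by
    intro y w hy hw hwi hwj
    have hwx : hf w x = 0 := by rw [hsum, hwi, hwj, add_zero]
    have hu : Iso (x + w) := by
      refine ⟨fun e => ?_, ?_⟩
      · have := congrFun e i
        rw [Pi.add_apply, hx, pv_left hij, hwi, add_zero] at this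
        exact one_ne_zero this
      · simp [hf_add_left, hf_add_right, hxi.2, hw, hwx, hf_zero_symm hwx]
    refine hy.move S Hx hu ?_
    rw [hf_add_right, hxi.2, hf_zero_symm hwx, add_zero]
  -- reduce to a point on the two coordinates
  obtain ⟨y, Hy, hyx, hyr⟩ : ∃ y, S.Has z y ∧ hf y x = 1 ∧ ∀ k, k ≠ i → k ≠ j → y k = 0 := by
    have zero : ∀ y, S.Has z y → hf y x = 1 → hf (rest i j y) (rest i j y) = 0 →
        ∃ y, S.Has z y ∧ hf y x = 1 ∧ ∀ k, k ≠ i → k ≠ j → y k = 0 := by
      intro y Hy hyx h0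
      have hpair : hf y (rest i j y) = hf (rest i j y) (rest i j y) := by
        refine Finset.sum_congr rfl fun k _ => ?_
        by_cases hk : k = i ∨ k = j <;> simp [rest, hk]
      have hc : hf y (x + rest i j y) = 1 := by rw [hf_add_right, hyx, hpair, h0, add_zero]
      refine ⟨_, move Hy h0 (by simp [rest]) (by simp [rest]), ?_, fun k h1 h2 => ?_⟩
      · rw [hc, one_smul, hf_add_left, hf_add_left, hyx, hxi.2,
          show hf (rest i j y) x = 0 by rw [hsum]; simp [rest], add_zero, add_zero]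
      · rw [hc, one_smul, Pi.add_apply, Pi.add_apply, xval k h1 h2, zero_add]
        simp [rest, h1, h2, K.add_self]
    by_cases h0 : hf (rest i j y) (rest i j y) = 0
    · exact zero y ⟨hy, hzy⟩ hyx h0
    · obtain ⟨k, hk⟩ := Function.ne_iff.1 (fun e => h0 (by rw [e]; exact hf_zero_left 0) : rest i j y ≠ 0)
      have hki : k ≠ i := fun e => hk (by simp [rest, e])
      have hkj : k ≠ j := fun e => hk (by simp [rest, e])
      obtain ⟨l, hli, hlj, hlk⟩ := exists_off S.big i j k
      obtain ⟨c, hc0, hc⟩ := key_choose (y k) (y l) (by simpa [rest, hki, hkj] using hk)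
      set t := y k + c ^ 2 * y l with ht
      set w := ((GF4.w * t⁻¹) ^ 2) • pv k l c with hw
      have hw0 : hf w w = 0 := by
        rw [hw, hf_smul_left, hf_smul_right, (iso_pv hlk.symm hc0).2, mul_zero, mul_zero]
      have hyw : hf y w = GF4.w := by
        rw [hw, hf_smul_right, K.sq_sq, hf_pv, ← ht, mul_assoc, inv_mul_cancel₀ hc, mul_one]
      have hwi : w i = 0 := by rw [hw, Pi.smul_apply, pv_other hki.symm hli.symm, smul_zero]
      have hwj : w j = 0 := by rw [hw, Pi.smul_apply, pv_other hkj.symm hlj.symm, smul_zero]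
      have hc' : hf y (x + w) = GF4.w ^ 2 := by rw [hf_add_right, hyx, hyw, K.w_rel.2.1]
      have Hy' := move ⟨hy, hzy⟩ hw0 hwi hwj
      rw [hc'] at Hy'
      set y' := y + GF4.w ^ 2 • (x + w) with hy'
      have hx' : hf y' x = 1 := by
        rw [hy', hf_add_left, hf_smul_left, hf_add_left, hyx, hxi.2,
          show hf w x = 0 by rw [hsum, hwi, hwj, add_zero]]
        simp
      refine zero y' Hy' hx' ?_
      have h1 := hf_split hij y
      rw [hy.2] at h1
      have h2 := hf_split hij y'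
      rw [Hy'.1.2] at h2
      have hn1 : hf (rest i j y) (rest i j y) = 1 := by
        have : ∀ a : GF4, a ^ 2 = a → a ≠ 0 → a = 1 := by decide +kernel
        exact this _ (hf_symm _ _).symm h0
      have ei : y' i = y i + GF4.w ^ 2 := by
        rw [hy']; simp [hwi, hx, pv_left hij]
      have ej : y' j = y j + GF4.w ^ 2 := by
        rw [hy']; simp [hwj, hx, pv_right hij]
      rw [ei, ej, key_fix (y i) (y j) (by rw [← hsum, hyx]) (by
        rw [hn1] at h1
        calc _ = y i * y i ^ 2 + y j * y j ^ 2 + (1 + 1) := by rw [K.add_self, add_zero]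
          _ = 1 := by rw [← add_assoc, ← h1, zero_add]), zero_add] at h2
      exact h2.symm
  -- every point is perpendicular to some point containing `z`
  have hpair : ∀ w, hf w y = w i * y i ^ 2 + w j * y j ^ 2 := fun w => by
    show ∑ k, w k * y k ^ 2 = _
    rw [← Finset.sum_subset (Finset.subset_univ ({i, j} : Finset (Fin n))) (fun k _ hk => by
      simp only [Finset.mem_insert, Finset.mem_singleton, not_or] at hk
      rw [hyr k hk.1 hk.2]; simp), Finset.sum_pair hij]
  have Hsum : S.Has z (y + x) := by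
    have := move Hy (hf_zero_left (0 : Vec n)) rfl rfl
    rwa [add_zero, hyx, one_smul] at this
  refine S.eq_one_of_perp fun w hw => ?_
  by_cases c1 : hf w x = 0
  · exact ⟨x, Hx, hf_zero_symm c1⟩
  by_cases c2 : hf w y = 0
  · exact ⟨y, Hy, hf_zero_symm c2⟩
  by_cases c3 : hf w (y + x) = 0
  · exact ⟨_, Hsum, hf_zero_symm c3⟩
  by_cases hwr : ∀ k, k ≠ i → k ≠ j → w k = 0
  · exfalso
    have hr : rest i j w = 0 := funext fun k => by
      by_cases h : k = i ∨ k = j
      · simp [rest, h]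
      · push Not at h; simp [rest, h.1, h.2, hwr k h.1 h.2]
    have hwi := hf_split hij w
    rw [hw.2, hr, hf_zero_left, add_zero] at hwi
    have hyi := hf_split hij y
    rw [Hy.1.2, show rest i j y = 0 from funext fun k => by
      by_cases h : k = i ∨ k = j
      · simp [rest, h]
      · push Not at h; simp [rest, h.1, h.2, hyr k h.1 h.2], hf_zero_left, add_zero] at hyi
    rw [hpair] at c2
    rw [hf_add_right, hpair, hsum] at c3
    refine key_line (w i) (w j) (y i) (y j) (by rwa [← hsum]) c2 ?_ (by rw [← hsum, hyx]) hyi.symm hwi.symm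
    convert c3 using 1
    rw [K.sq_add, K.sq_add]; ring
  push Not at hwr
  obtain ⟨k, hki, hkj, hk⟩ := hwr
  obtain ⟨l, hli, hlj, hlk⟩ := exists_off S.big i j k
  obtain ⟨c, hc0, hc⟩ := key_choose (w k) (w l) hk
  set t := w k + c ^ 2 * w l with ht
  set v := ((hf w (y + x) * t⁻¹) ^ 2) • pv k l c with hv
  have hv0 : hf v v = 0 := by
    rw [hv, hf_smul_left, hf_smul_right, (iso_pv hlk.symm hc0).2, mul_zero, mul_zero]
  have hvi : v i = 0 := by rw [hv, Pi.smul_apply, pv_other hki.symm hli.symm, smul_zero]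
  have hvj : v j = 0 := by rw [hv, Pi.smul_apply, pv_other hkj.symm hlj.symm, smul_zero]
  have hyv : hf y v = 0 := hf_zero_symm (by rw [hpair, hvi, hvj, zero_mul, zero_mul, add_zero])
  have hc' : hf y (x + v) = 1 := by rw [hf_add_right, hyx, hyv, add_zero]
  have H := move Hy hv0 hvi hvj
  rw [hc', one_smul] at H
  refine ⟨_, H, hf_zero_symm ?_⟩
  rw [← add_assoc, hf_add_right, hv, hf_smul_right, K.sq_sq, hf_pv, ← ht, mul_assoc, inv_mul_cancel₀ hc,
    mul_one, K.add_self]

theorem meet {u v : Vec n} (hu : Iso u) (hv : Iso v) (h : hf v u ≠ 0) {z : G} (hzu : z ∈ S.A u)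
    (hzv : z ∈ S.A v) : z = 1 := by
  have hb := S.big
  have hij : (⟨0, by omega⟩ : Fin n) ≠ ⟨1, by omega⟩ := fun h => by simp [Fin.ext_iff] at h
  set x := pv (⟨0, by omega⟩ : Fin n) ⟨1, by omega⟩ (1 : GF4) with hx
  have hxi : Iso x := iso_pv hij one_ne_zero
  obtain ⟨d, hd, hdu⟩ := S.exists_lift hu
  obtain ⟨e, he, hex⟩ := S.exists_lift hxi
  obtain ⟨g, hg⟩ := class_conj S.cls hd he
  have h1 : tEl ((S.π g).1.1 *ᵥ u) = tEl x := by
    rw [← conj_tEl _ hu.2, ← hdu, ← map_inv, ← map_mul, ← map_mul, hg, hex]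
  obtain ⟨a, ha, hxa⟩ := eq_smul_of_tEl_eq (hu.map _) hxi h1
  have hgu := S.conj_A g hu hzu
  rw [← S.A_smul (hu.map _) ha, ← hxa] at hgu
  set v' := (S.π g).1.1 *ᵥ v with hv'
  have hpair : hf v' x ≠ 0 := by
    rw [hxa, hf_smul_right, hv', hf_map]
    exact mul_ne_zero (pow_ne_zero _ ha) h
  have hgv := S.conj_A g hv hzv
  rw [← hv', ← S.A_smul (hv.map _) (inv_ne_zero hpair)] at hgv
  have := S.meet_std hij ((hv.map _).smul (inv_ne_zero hpair))
    (by rw [hf_smul_left, inv_mul_cancel₀ hpair]) hgu hgv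
  exact (conj_eq_one_iff.1 this)

end Setup

end CfsgLib.TwoRadicalSU
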