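import Cfsg.Agent.Lib.TwoRadicalSU.Form
import Cfsg.Agent.Lib.TwoRadicalSU.Radical

/-!
# The 2-radical is elementary abelian when the quotient is `SU(n,2)`
-/

set_option autoImplicit false
set_option linter.unusedSectionVars false

namespace CfsgLib.TwoRadicalSU

open Cfsg CfsgLib.TwoRadical CfsgLib.ClassicalGroups CfsgLib.ThreeTrans Matrix

universe u

variable {n : ℕ} {G : Type u} [Group G] [Finite G]

/-- The diagonal subgroup. -/
def diag (n : ℕ) : Subgroup (SUn n) where
  carrier := {g | ∀ i, ∃ a : GF4, g.1.1 *ᵥ Pi.single i 1 = a • Pi.single i (1 : GF4)}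
  one_mem' i := ⟨1, by rw [SU_one_mulVec, one_smul]⟩
  mul_mem' {g h} hg hh i := by
    obtain ⟨a, ha⟩ := hh i
    obtain ⟨b, hb⟩ := hg i
    exact ⟨a * b, by rw [SU_mul_mulVec, ha, Matrix.mulVec_smul, hb, smul_smul]⟩
  inv_mem' {g} hg i := by
    obtain ⟨a, ha⟩ := hg i
    have ha0 : a ≠ 0 := fun e => by
      have h := SU_inv_mulVec_mulVec g (Pi.single i (1 : GF4))
      rw [ha, e, zero_smul, Matrix.mulVec_zero] at h
      simpa using congrFun h i
    refine ⟨a⁻¹, ?_⟩
    conv_rhs => rw [← SU_inv_mulVec_mulVec g (Pi.single i (1 : GF4)), ha, Matrix.mulVec_smul, smul_smul,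
      inv_mul_cancel₀ ha0, one_smul]

theorem diag_isPGroup : IsPGroup 3 (diag n) := by
  rintro ⟨g, hg⟩
  refine ⟨1, Subtype.ext ?_⟩
  show g ^ 3 ^ 1 = 1
  rw [pow_one]
  refine Subtype.ext (Subtype.ext (Matrix.ext_of_mulVec_single fun i => ?_))
  show (g ^ 3).1.1 *ᵥ Pi.single i 1 = (1 : SUn n).1.1 *ᵥ Pi.single i 1
  obtain ⟨a, ha⟩ := hg i
  have key : ∀ b : GF4, b ≠ 0 → b * (b * b) = 1 := by decide +kernel
  have ha0 : a ≠ 0 := fun e => by
    have h := SU_inv_mulVec_mulVec g (Pi.single i (1 : GF4))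
    rw [ha, e, zero_smul, Matrix.mulVec_zero] at h
    simpa using congrFun h i
  simp only [pow_succ, pow_zero, one_mul, SU_mul_mulVec, ha, Matrix.mulVec_smul, smul_smul, SU_one_mulVec]
  rw [key a ha0, one_smul]

theorem dv_mem_diag {i j : Fin n} (h : i ≠ j) : tEl (pv i j (GF4.w ^ 2)) * tEl (pv i j 1) ∈ diag n := by
  intro k
  refine ⟨if k = i then GF4.w else if k = j then GF4.w ^ 2 else 1, funext fun l => ?_⟩
  rw [SU_mul_mulVec, tEl_apply (iso_pv h one_ne_zero).2, tEl_apply (iso_pv h K.w_ne.2.2.2.2).2, dv_apply h,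
    Pi.smul_apply, smul_eq_mul]
  by_cases hl : l = k
  · subst hl
    by_cases h1 : l = i
    · simp [h1]
    · by_cases h2 : l = j
      · simp [h2, h.symm]
      · simp [h1, h2]
  · by_cases h1 : l = i
    · subst h1; simp [hl]
    · by_cases h2 : l = j
      · subst h2; simp [h1, hl]
      · simp [h1, h2, hl]

namespace Setup

variable (S : Setup n G)

/-- The subgroup generated by all products over one point. -/
def R : Subgroup G := Subgroup.closure {x | ∃ v, Iso v ∧ x ∈ S.A v}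

theorem A_le_R {v : Vec n} (hv : Iso v) : S.A v ≤ S.R := fun _ hx => Subgroup.subset_closure ⟨v, hv, hx⟩

theorem R_le : S.R ≤ pCore 2 G := (Subgroup.closure_le _).2 fun _ ⟨v, _, hx⟩ => S.A_le v hx

theorem conj_R (g : G) {x : G} (hx : x ∈ S.R) : g * x * g⁻¹ ∈ S.R := by
  induction hx using Subgroup.closure_induction with
  | mem x hx =>
    obtain ⟨v, hv, hx⟩ := hx
    exact S.A_le_R (hv.map _) (S.conj_A g hv hx)
  | one => simp
  | mul a b _ _ iha ihb => simpa [mul_assoc] using mul_mem iha ihb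
  | inv a _ ih => simpa [mul_assoc] using inv_mem ih

theorem R_commute {x y : G} (hx : x ∈ S.R) (hy : y ∈ S.R) : Commute x y := by
  have gen : ∀ a b, (∃ v, Iso v ∧ a ∈ S.A v) → (∃ v, Iso v ∧ b ∈ S.A v) → Commute a b := by
    rintro a b ⟨u, hu, ha⟩ ⟨v, hv, hb⟩
    by_cases h : hf u v = 0
    · exact S.A_commute hu hv h ha hb
    have hnorm : ∀ {w : Vec n} {p q : G}, Iso w → p ∈ pCore 2 G → q ∈ S.A w → p * q * p⁻¹ ∈ S.A w := by
      intro w p q hw hp hq
      have := S.conj_A p hw hq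
      rwa [(S.mem_pCore_iff).1 hp, SU_one_mulVec] at this
    have h1 : a * b * a⁻¹ * b⁻¹ = 1 := by
      refine S.meet hu hv (fun e => h (hf_zero_symm e)) ?_ (mul_mem (hnorm hv (S.A_le u ha) hb) (inv_mem hb))
      rw [show a * b * a⁻¹ * b⁻¹ = a * (b * a⁻¹ * b⁻¹) by group]
      exact mul_mem ha (hnorm hu (S.A_le v hb) (inv_mem ha))
    rw [mul_inv_eq_one, mul_inv_eq_iff_eq_mul] at h1
    exact h1
  have := Subgroup.isMulCommutative_closure (k := {x | ∃ v, Iso v ∧ x ∈ S.A v}) fun a ha b hb => gen a b ha hb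
  exact congrArg Subtype.val (this.is_comm.comm ⟨x, hx⟩ ⟨y, hy⟩)

theorem R_sq {x : G} (hx : x ∈ S.R) : x * x = 1 := by
  induction hx using Subgroup.closure_induction with
  | mem x hx => obtain ⟨v, hv, hx⟩ := hx; exact S.A_sq hv hx
  | one => rw [one_mul]
  | mul a b ha hb iha ihb => rw [(S.R_commute hb ha).mul_mul_mul_comm, iha, ihb, one_mul]
  | inv a _ ih => rw [← _root_.mul_inv_rev, ih, inv_one]

instance commGroupR : CommGroup S.R :=
  { (inferInstance : Group S.R) with mul_comm := fun a b => Subtype.ext (S.R_commute a.2 b.2) }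

/-- The module. -/
abbrev Mo : Type u := Additive S.R

/-- Conjugation on the module. -/
noncomputable def act (g : G) : S.Mo →+ S.Mo :=
  MonoidHom.toAdditive
    { toFun := fun x => ⟨g * (x : G) * g⁻¹, S.conj_R g x.2⟩
      map_one' := Subtype.ext (by simp)
      map_mul' := fun a b => Subtype.ext (by simp [mul_assoc]) }

/-- The underlying element. -/
def val (x : S.Mo) : G := ((Additive.toMul x : S.R) : G)

theorem val_mem (x : S.Mo) : S.val x ∈ S.R := (Additive.toMul x).2

theorem val_inj {x y : S.Mo} (h : S.val x = S.val y) : x = y := Additive.toMul.injective (Subtype.ext h)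

theorem val_add (x y : S.Mo) : S.val (x + y) = S.val x * S.val y := rfl

theorem val_zero : S.val 0 = 1 := rfl

theorem val_act (g : G) (x : S.Mo) : S.val (S.act g x) = g * S.val x * g⁻¹ := rfl

theorem act_mul (g h : G) (x : S.Mo) : S.act (g * h) x = S.act g (S.act h x) :=
  S.val_inj (by simp [val_act, mul_assoc])

theorem act_one (x : S.Mo) : S.act 1 x = x := S.val_inj (by simp [val_act])

theorem act_of_mem {r : G} (hr : r ∈ S.R) (x : S.Mo) : S.act r x = x :=
  S.val_inj (by rw [val_act, (S.R_commute hr (S.val_mem x)).eq, mul_inv_cancel_right])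

theorem act_member {d d' : G} (hd : d ∈ S.D) (hd' : d' ∈ S.D) {v : Vec n} (hv : Iso v) (h : S.π d = tEl v)
    (h' : S.π d' = tEl v) (x : S.Mo) : S.act d x = S.act d' x := by
  rw [← S.act_of_mem (S.A_le_R hv (S.mul_mem_A hd hd' h h')) (S.act d' x), ← act_mul, mul_assoc,
    mul_self S.cls.1 hd', mul_one]

open Classical in
/-- A member over a point. -/
noncomputable def lift (v : Vec n) : G := if h : Iso v then (S.exists_lift h).choose else 1

theorem lift_mem {v : Vec n} (hv : Iso v) : S.lift v ∈ S.D := by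
  rw [lift, dif_pos hv]; exact (S.exists_lift hv).choose_spec.1

theorem lift_img {v : Vec n} (hv : Iso v) : S.π (S.lift v) = tEl v := by
  rw [lift, dif_pos hv]; exact (S.exists_lift hv).choose_spec.2

theorem conj_member {d e : G} (hd : d ∈ S.D) (he : e ∈ S.D) {u v : Vec n} (hu : Iso u) (hv : Iso v)
    (hdu : S.π d = tEl u) (hev : S.π e = tEl v) : d * e * d ∈ S.D ∧ S.π (d * e * d) = tEl (tv u v) :=
  ⟨conj_mem_left S.closed hd he, by rw [map_mul, map_mul, hdu, hev, conj_tEl_tEl hu.2 hv.2]⟩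

/-- The transvection module on the radical. -/
noncomputable def umod : UMod n S.Mo where
  tau v := S.act (S.lift v)
  A v := (((S.A v).subgroupOf S.R).toAddSubgroup)
  add_self x := S.val_inj (by rw [val_add, val_zero]; exact S.R_sq (S.val_mem x))
  tau_sq v hv x := by rw [← act_mul, mul_self S.cls.1 (S.lift_mem hv), act_one]
  tau_smul v a hv ha := AddMonoidHom.ext fun x => S.act_member (S.lift_mem (hv.smul ha)) (S.lift_mem hv)
    hv ((S.lift_img (hv.smul ha)).trans (tEl_smul hv.2 ha)) (S.lift_img hv) x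
  A_smul v a hv ha := by simp only [S.A_smul hv ha]
  conj u v hu hv x := by
    obtain ⟨h1, h2⟩ := S.conj_member (S.lift_mem hu) (S.lift_mem hv) hu hv (S.lift_img hu) (S.lift_img hv)
    rw [← act_mul, ← act_mul]
    exact S.act_member h1 (S.lift_mem (hv.tv hu.2)) (hv.tv hu.2) h2 (S.lift_img (hv.tv hu.2)) x
  move u v hu hv x hx := by
    show S.lift u * S.val x * (S.lift u)⁻¹ ∈ S.A (tv u v)
    rw [inv_eq S.cls.1 (S.lift_mem hu)]
    exact S.conj_A_tv (S.lift_mem hu) hu (S.lift_img hu) hv hx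
  step v hv x := by
    show S.val x * (S.lift v * S.val x * (S.lift v)⁻¹) ∈ S.A v
    have hd := S.lift_mem hv
    rw [show S.val x * (S.lift v * S.val x * (S.lift v)⁻¹) = S.val x * S.lift v * (S.val x)⁻¹ * S.lift v by
      rw [inv_eq S.cls.1 hd, inv_eq_of_mul_eq_one_right (S.R_sq (S.val_mem x))]; simp [mul_assoc]]
    refine S.mul_mem_A (S.closed.conj _ _ hd) hd ?_ (S.lift_img hv)
    rw [map_mul, map_mul, map_inv, (S.mem_pCore_iff).1 (S.R_le (S.val_mem x)), one_mul, inv_one, mul_one,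
      S.lift_img hv]
  perp u v hu hv h x hx := S.val_inj (by
    rw [val_act, (S.A_fixed hv hu h (S.lift_mem hu) (S.lift_img hu) (x := S.val x) hx).eq, mul_inv_cancel_right])
  meet u v hu hv h x hxu hxv := S.val_inj (S.meet hu hv (fun e => h (hf_zero_symm e)) hxu hxv)
  fix_all x h := S.val_inj (by
    have hc : S.val x ∈ Subgroup.center G := mem_center_of_commute S.cls.2.2 fun d hd => by
      obtain ⟨v, hv, hdv⟩ := S.exists_vec hd
      have h1 := congrArg S.val ((S.act_member hd (S.lift_mem hv) hv hdv (S.lift_img hv) x).trans (h v hv))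
      rw [val_act, mul_inv_eq_iff_eq_mul] at h1
      exact h1.symm
    rwa [S.center, Subgroup.mem_bot] at hc)

theorem tau_eq (v : Vec n) (x : S.Mo) : S.umod.tau v x = S.act (S.lift v) x := rfl

theorem forms_all (I : Frame n) (g : G) : S.umod.Fm I (S.act g) (S.π g).1.1 := by
  have hg : g ∈ Submonoid.closure S.D := by
    rw [← Subgroup.closure_toSubmonoid_of_finite, Subgroup.mem_toSubmonoid, S.cls.2.2]
    exact Subgroup.mem_top g
  induction hg using Submonoid.closure_induction with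
  | mem d hd =>
    obtain ⟨v, hv, hdv⟩ := S.exists_vec hd
    rw [hdv]
    exact (S.umod.forms I v hv).congr S.umod I fun x => (S.act_member hd (S.lift_mem hv) hv hdv (S.lift_img hv) x).symm
  | one =>
    rw [map_one]
    exact (UMod.Fm.one S.umod I).congr S.umod I fun x => (S.act_one x).symm
  | mul a b _ _ iha ihb =>
    rw [map_mul]
    exact (iha.comp S.umod I ihb).congr S.umod I fun x => (S.act_mul a b x).symm

theorem act_radical (I : Frame n) {q : G} (hq : q ∈ pCore 2 G) (x : S.Mo) : S.act q x = x := by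
  have h1 : S.π q = 1 := (S.mem_pCore_iff).1 hq
  have hf1 := S.forms_all I q
  rw [h1] at hf1
  have hcomm : ∀ v, Iso v → ∀ y, S.act q (S.umod.tau v y) = S.umod.tau v (S.act q y) := by
    intro v hv y
    have hd := S.lift_mem hv
    have e : S.lift v * q = q * (q⁻¹ * S.lift v * q) := by group
    rw [tau_eq, tau_eq, ← act_mul S (S.lift v), e, act_mul]
    congr 1
    exact S.act_member hd (S.closed.conj' q hd) hv (S.lift_img hv)
      (by rw [map_mul, map_mul, map_inv, h1, S.lift_img hv]; simp) y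
  refine S.umod.rigid I hf1 (fun i j h y => ?_) x
  rw [UMod.U_apply, UMod.r, UMod.r, hcomm _ (iso_pv h K.w_ne.2.2.2.2), hcomm _ (iso_pv h one_ne_zero)]
  rfl

theorem act_congr (I : Frame n) {g h : G} (e : S.π g = S.π h) (x : S.Mo) : S.act g x = S.act h x := by
  have hq : h⁻¹ * g ∈ pCore 2 G := by rw [S.mem_pCore_iff, map_mul, map_inv, e, inv_mul_cancel]
  conv_lhs => rw [show g = h * (h⁻¹ * g) by group, act_mul, S.act_radical I hq]

theorem centralize_R (I : Frame n) {q r : G} (hq : q ∈ pCore 2 G) (hr : r ∈ S.R) : Commute q r := by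
  have h := congrArg S.val (S.act_radical I hq (Additive.ofMul ⟨r, hr⟩))
  rw [val_act, mul_inv_eq_iff_eq_mul] at h
  exact h

/-- A complement of the radical in the preimage of the diagonal subgroup. -/
theorem exists_torus : ∃ M₀ : Subgroup G, Odd (Nat.card M₀) ∧ (∀ m ∈ M₀, S.π m ∈ diag n) ∧
    (∀ m ∈ M₀, m ∈ pCore 2 G → m = 1) ∧ ∀ t ∈ diag n, ∃ m ∈ M₀, S.π m = t := by
  haveI : Fact (Nat.Prime 2) := ⟨Nat.prime_two⟩
  haveI : Fact (Nat.Prime 3) := ⟨Nat.prime_three⟩
  set P := (diag n).comap S.π with hP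
  set N := (pCore 2 G).subgroupOf P with hN
  have hle : pCore 2 G ≤ P := fun q hq => by
    rw [hP, Subgroup.mem_comap, (S.mem_pCore_iff).1 hq]; exact one_mem _
  haveI hNn : N.Normal := (pCore_normal 2 G).subgroupOf P
  let φ : P →* diag n := (S.π.comp P.subtype).codRestrict (diag n) fun x => x.2
  have hφs : Function.Surjective φ := by
    rintro ⟨t, ht⟩
    obtain ⟨g, rfl⟩ := S.surj t
    exact ⟨⟨g, ht⟩, Subtype.ext rfl⟩
  have hker : φ.ker = N := by
    ext x
    rw [MonoidHom.mem_ker, hN, Subgroup.mem_subgroupOf, S.mem_pCore_iff]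
    exact ⟨fun h => congrArg Subtype.val h, fun h => Subtype.ext h⟩
  obtain ⟨a, ha⟩ := IsPGroup.iff_card.1 (diag_isPGroup (n := n))
  obtain ⟨b, hb⟩ := IsPGroup.iff_card.1 (CfsgLib.PCore.pCore_isPGroup (G := G) (p := 2))
  have hidx : N.index = 3 ^ a := by
    rw [← hker, Subgroup.index_ker, ← ha, MonoidHom.range_eq_top.2 hφs, Subgroup.card_top]
  have hcard : Nat.card N = 2 ^ b := by
    rw [← hb, hN, Nat.card_congr (Subgroup.subgroupOfEquivOfLe hle).toEquiv]
  obtain ⟨C, hC⟩ := Subgroup.exists_left_complement'_of_coprime (N := N) (by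
    rw [hidx, hcard]; exact Nat.Coprime.pow _ _ (by norm_num))
  refine ⟨C.map P.subtype, ?_, ?_, ?_, ?_⟩
  · rw [Nat.card_congr (C.equivMapOfInjective P.subtype P.subtype_injective).toEquiv.symm]
    have := hC.card_mul
    rw [← Subgroup.card_mul_index N, hidx] at this
    have hC' : Nat.card C = 3 ^ a := Nat.eq_of_mul_eq_mul_right (by rw [hcard]; positivity)
      (this.trans (Nat.mul_comm _ _))
    rw [hC']; exact Odd.pow (by decide)
  · rintro _ ⟨m, -, rfl⟩; exact m.2
  · rintro _ ⟨m, hm, rfl⟩ hq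
    have : m ∈ C ⊓ N := ⟨hm, Subgroup.mem_subgroupOf.2 hq⟩
    rw [hC.isCompl.inf_eq_bot, Subgroup.mem_bot] at this
    simp [this]
  · intro t ht
    obtain ⟨p, hp⟩ := hφs ⟨t, ht⟩
    obtain ⟨⟨c, e⟩, hce, -⟩ := Subgroup.IsComplement.existsUnique hC p
    refine ⟨_, ⟨c, c.2, rfl⟩, ?_⟩
    have hp' : S.π (p : G) = t := congrArg Subtype.val hp
    have he : S.π ((e : P) : G) = 1 := (S.mem_pCore_iff).1 e.2
    rw [← hp', ← hce]
    show S.π ((c : P) : G) = S.π (((c : P) : G) * ((e : P) : G))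
    rw [map_mul, he, mul_one]

theorem radical_eq (I : Frame n) : pCore 2 G = S.R := by
  refine le_antisymm (fun q hq => ?_) S.R_le
  obtain ⟨M₀, hodd, hdiag, hinj, hsur⟩ := S.exists_torus
  haveI := Fintype.ofFinite M₀
  -- `g ↦ [q,g]` takes values in `R`
  have hδ : ∀ g : G, q * g * q⁻¹ * g⁻¹ ∈ S.R := by
    intro g
    have hg : g ∈ Submonoid.closure S.D := by
      rw [← Subgroup.closure_toSubmonoid_of_finite, Subgroup.mem_toSubmonoid, S.cls.2.2]
      exact Subgroup.mem_top g
    induction hg using Submonoid.closure_induction with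
    | mem d hd =>
      obtain ⟨v, hv, hdv⟩ := S.exists_vec hd
      rw [inv_eq S.cls.1 hd]
      refine S.A_le_R hv (S.mul_mem_A (S.closed.conj q d hd) hd ?_ hdv)
      rw [map_mul, map_mul, map_inv, (S.mem_pCore_iff).1 hq, hdv]; simp
    | one => simp
    | mul a b _ _ iha ihb =>
      rw [show q * (a * b) * q⁻¹ * (a * b)⁻¹ = q * a * q⁻¹ * a⁻¹ * (a * (q * b * q⁻¹ * b⁻¹) * a⁻¹) by group]
      exact mul_mem iha (S.conj_R a ihb)
  set δ : M₀ → S.Mo := fun m => Additive.ofMul ⟨_, hδ (m : G)⟩ with hδd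
  have hcoc : ∀ a b : M₀, δ (a * b) = δ a + S.act (a : G) (δ b) := fun a b => S.val_inj (by
    rw [val_add, val_act]
    show q * ((a : G) * b) * q⁻¹ * ((a : G) * b)⁻¹ = q * a * q⁻¹ * (a : G)⁻¹ * (a * (q * b * q⁻¹ * (b : G)⁻¹) * (a : G)⁻¹)
    group)
  set T := ∑ m, δ m with hT
  have hself : ∀ x : S.Mo, x + x = 0 := S.umod.add_self
  have hcard : ∀ x : S.Mo, Fintype.card M₀ • x = x := fun x => by
    rw [Nat.card_eq_fintype_card] at hodd
    obtain ⟨k, hk⟩ := hodd
    rw [hk, succ_nsmul, mul_nsmul', two_nsmul, ← nsmul_add, hself, smul_zero, zero_add]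
  have hsum : ∀ m : M₀, T = δ m + S.act (m : G) T := fun m => by
    have : ∑ b, δ (m * b) = T := Fintype.sum_equiv (Equiv.mulLeft m) _ δ fun b => rfl
    simp only [hcoc, Finset.sum_add_distrib, Finset.sum_const, Finset.card_univ, hcard, ← map_sum] at this
    exact this.symm
  set q' := S.val T * q with hq'
  have hT' := S.val_mem T
  have hcm : ∀ m ∈ M₀, Commute q' m := by
    intro m hm
    have h := congrArg S.val (hsum ⟨m, hm⟩)
    rw [val_add, val_act] at h
    have hinvT := inv_eq_of_mul_eq_one_right (S.R_sq hT')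
    show S.val T * q * m = m * (S.val T * q)
    have e : q * m = (q * m * q⁻¹ * m⁻¹) * m * q := by group
    rw [mul_assoc, e, show q * m * q⁻¹ * m⁻¹ = S.val (δ ⟨m, hm⟩) from rfl]
    conv_lhs => arg 1; rw [← hinvT, h]
    rw [_root_.mul_inv_rev, _root_.mul_inv_rev, _root_.mul_inv_rev, inv_inv,
      inv_eq_of_mul_eq_one_right (S.R_sq hT'), inv_eq_of_mul_eq_one_right (S.R_sq (S.val_mem _))]
    simp only [mul_assoc]
    rw [← mul_assoc (S.val (δ ⟨m, hm⟩)) (S.val (δ ⟨m, hm⟩)), S.R_sq (S.val_mem _), one_mul,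
      inv_mul_cancel_left]
  have hq'Q : q' ∈ pCore 2 G := mul_mem (S.R_le hT') hq
  have hπq' : S.π q' = 1 := (S.mem_pCore_iff).1 hq'Q
  have hcR : ∀ {r : G}, r ∈ S.R → Commute q' r := fun hr => S.centralize_R I hq'Q hr
  -- a member centralised by `q'` at each point of a generating set
  have hpoint : ∀ (v : Vec n) (hv : Iso v), (∀ y : S.Mo, y ∈ S.umod.A v →
      (∀ m ∈ M₀, (∃ c : GF4, c ≠ 0 ∧ (S.π m).1.1 *ᵥ v = c • v) → S.act m y = y) → y = 0) →
      Commute q' (S.lift v) := by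
    intro v hv hfree
    set d := S.lift v with hd'
    have hd := S.lift_mem hv
    have haA : d * (q' * d * q'⁻¹) ∈ S.A v := S.mul_mem_A hd (S.closed.conj q' d hd) (S.lift_img hv)
      (by rw [map_mul, map_mul, map_inv, hπq', S.lift_img hv]; simp)
    set y : S.Mo := Additive.ofMul ⟨_, S.A_le_R hv haA⟩ with hy
    have hy0 : y = 0 := hfree y haA fun m hm hfix => S.val_inj (by
      obtain ⟨c, hc, hmv⟩ := hfix
      rw [val_act]
      show m * (d * (q' * d * q'⁻¹)) * m⁻¹ = d * (q' * d * q'⁻¹)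
      have hbA : d * (m * d * m⁻¹) ∈ S.A v := S.mul_mem_A hd (S.closed.conj m d hd) (S.lift_img hv)
        (by rw [map_mul, map_mul, map_inv, S.lift_img hv, conj_tEl _ hv.2, hmv, tEl_smul hv.2 hc])
      set b := d * (m * d * m⁻¹) with hb
      have hmd : m * d * m⁻¹ = d * b := by rw [hb, mul_self_mul S.cls.1 hd]
      have e : m * (q' * d * q'⁻¹) * m⁻¹ = q' * d * q'⁻¹ * b := by
        calc m * (q' * d * q'⁻¹) * m⁻¹ = (m * q') * d * (m * q')⁻¹ := by group
          _ = (q' * m) * d * (q' * m)⁻¹ := by rw [(hcm m hm).eq]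
          _ = q' * (m * d * m⁻¹) * q'⁻¹ := by group
          _ = q' * d * (b * q'⁻¹) := by rw [hmd]; group
          _ = _ := by rw [((hcR (S.A_le_R hv hbA)).inv_left.eq).symm]; group
      calc m * (d * (q' * d * q'⁻¹)) * m⁻¹ = m * d * m⁻¹ * (m * (q' * d * q'⁻¹) * m⁻¹) := by group
        _ = d * b * (q' * d * q'⁻¹ * b) := by rw [hmd, e]
        _ = d * (b * (q' * d * q'⁻¹)) * b := by group
        _ = d * ((q' * d * q'⁻¹) * b) * b := by
            rw [(S.A_fixed hv hv hv.2 (S.closed.conj q' d hd) (by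
              rw [map_mul, map_mul, map_inv, hπq', S.lift_img hv]; simp) hbA).eq]
        _ = _ := by rw [mul_assoc, mul_assoc _ b b, S.A_sq hv hbA, mul_one])
    have h1 : d * (q' * d * q'⁻¹) = 1 := congrArg S.val hy0
    have h2 : q' * d * q'⁻¹ = d := (eq_inv_of_mul_eq_one_right h1).trans (inv_eq S.cls.1 hd)
    exact mul_inv_eq_iff_eq_mul.1 h2
  have hact : ∀ {i j : Fin n} (h : i ≠ j), ∃ m ∈ M₀, (∀ y, S.act m y = S.umod.U i j y) ∧
      ∀ x, (S.π m).1.1 *ᵥ x = tv (pv i j (GF4.w ^ 2)) (tv (pv i j 1) x) := by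
    intro i j h
    obtain ⟨m, hm, hmt⟩ := hsur _ (dv_mem_diag h)
    refine ⟨m, hm, fun y => ?_, fun x => ?_⟩
    · rw [UMod.U_apply, UMod.r, UMod.r, tau_eq, tau_eq, ← act_mul]
      exact S.act_congr I (by rw [hmt, map_mul, S.lift_img (iso_pv h K.w_ne.2.2.2.2), S.lift_img (iso_pv h one_ne_zero)]) y
    · rw [hmt, SU_mul_mulVec, tEl_apply (iso_pv h one_ne_zero).2, tEl_apply (iso_pv h K.w_ne.2.2.2.2).2]
  have hall : ∀ v, Iso v → Commute q' (S.lift v) := by
    refine reach I.odd (fun v => Commute q' (S.lift v)) ?_ ?_ I.card_S₄ ?_ ?_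
    · intro v a hv ha h
      have hc : Commute q' (S.lift (a • v) * S.lift v) := hcR (S.A_le_R hv (S.mul_mem_A (S.lift_mem (hv.smul ha))
        (S.lift_mem hv) ((S.lift_img (hv.smul ha)).trans (tEl_smul hv.2 ha)) (S.lift_img hv)))
      have := hc.mul_right h
      rwa [mul_assoc, mul_self S.cls.1 (S.lift_mem hv), mul_one] at this
    · intro i j a hij ha
      refine hpoint _ (iso_pv hij ha) fun y hy hfix => ?_
      obtain ⟨k, hki, hkj, -⟩ := S.umod.exists_off' I i j j
      obtain ⟨f, rfl⟩ := (S.umod.Ψ_bijective I).2 y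
      have hzero : ∀ l, l ≠ i → l ≠ j → f l = 0 := by
        intro l hli hlj
        obtain ⟨l', hl'i, hl'j, hl'l⟩ := S.umod.exists_off' I i j l
        have h0 : ∀ c : GF4, c ≠ 0 → S.umod.sm I c (f l) = f l' := by
          intro c hc
          have hp := S.umod.perp _ _ (iso_pv hl'l.symm hc) (iso_pv hij ha) (perp_pv hli hl'i hlj hl'j a c) _ hy
          have e := congrFun ((S.umod.Ψ_bijective I).1 ((S.umod.r_Ψ' I hl'l.symm hc f).symm.trans hp)) l'
          rwa [UMod.rf_apply, if_neg hl'l, if_pos rfl] at e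
        exact S.umod.sm_w_fpf I ((h0 _ K.w_ne.1).trans ((h0 1 one_ne_zero).symm.trans (S.umod.sm_one I _)))
      obtain ⟨m1, hm1, ha1, hx1⟩ := hact hki.symm
      obtain ⟨m2, hm2, ha2, hx2⟩ := hact hkj.symm
      have e := hfix (m1 * m2) (mul_mem hm1 hm2) ⟨GF4.w, K.w_ne.1, funext fun l => ?_⟩
      · rw [act_mul, ha2, ha1, S.umod.U_Ψ I hkj.symm, S.umod.U_Ψ I hki.symm] at e
        have e' := (S.umod.Ψ_bijective I).1 e
        have hi := congrFun e' i
        have hj := congrFun e' j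
        simp only [if_pos, if_neg hij, if_neg hki.symm, if_neg hij.symm, if_neg hkj.symm] at hi hj
        have h0 : f = 0 := funext fun l => by
          by_cases hli : l = i
          · rw [hli]; exact S.umod.sm_w_fpf I hi
          by_cases hlj : l = j
          · rw [hlj]; exact S.umod.sm_w_fpf I hj
          exact hzero l hli hlj
        rw [h0, map_zero]
      · rw [map_mul, SU_mul_mulVec, hx2, hx1, dv_apply hki.symm, dv_apply hkj.symm, dv_apply hkj.symm,
          dv_apply hkj.symm, Pi.smul_apply, smul_eq_mul]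
        by_cases hli : l = i
        · simp [hli, hij, hki.symm, pv_left hij]
        by_cases hlk : l = k
        · subst hlk; simp [pv_other hki hkj, hki, hkj]
        by_cases hlj : l = j
        · simp [hlj, hij.symm, hkj.symm, pv_right hij]
        simp [hli, hlj, hlk, pv_other hli hlj]
    · refine hpoint _ I.iso_x₀ fun y hy hfix => ?_
      obtain ⟨m1, hm1, ha1, hx1⟩ := hact I.ae
      obtain ⟨m2, hm2, ha2, hx2⟩ := hact I.be
      obtain ⟨m3, hm3, ha3, hx3⟩ := hact I.ce
      obtain ⟨m4, hm4, ha4, hx4⟩ := hact I.de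
      have e := hfix (m1 * (m2 * (m3 * m4))) (mul_mem hm1 (mul_mem hm2 (mul_mem hm3 hm4)))
        ⟨GF4.w, K.w_ne.1, funext fun l => ?_⟩
      · rw [act_mul, act_mul, act_mul, ha4, ha3, ha2, ha1] at e
        refine S.umod.A_fix_zero (iso_pv I.ab K.w_ne.1) I.iso_x₀ ?_ hy
          (S.umod.r_fix_of_U I.ab (S.umod.fix_U_of_z I e) K.w_ne.1)
        rw [hf_pv, Frame.x₀, ind, ind, if_pos (I.mem_S₄.2 (Or.inl rfl)),
          if_pos (I.mem_S₄.2 (Or.inr (Or.inl rfl)))]
        decide +kernel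
      · simp only [map_mul, SU_mul_mulVec, hx4, hx3, hx2, hx1, dv_apply I.ae, dv_apply I.be, dv_apply I.ce,
          dv_apply I.de, Pi.smul_apply, smul_eq_mul]
        by_cases h : l = I.e
        · subst h; simp [I.ae.symm, I.be.symm, I.ce.symm, I.de.symm, I.x₀_e, Frame.x₀, ind, I.mem_S₄]
        by_cases ha : l = I.a
        · subst ha; simp [I.ab, I.ac, I.ad, I.ae]
        by_cases hb : l = I.b
        · subst hb; simp [I.ab.symm, I.bc, I.bd, I.be]
        by_cases hc : l = I.c
        · subst hc; simp [I.ac.symm, I.bc.symm, I.cd, I.ce]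
        by_cases hd : l = I.d
        · subst hd; simp [I.ad.symm, I.bd.symm, I.cd.symm, I.de]
        simp [h, ha, hb, hc, hd, Frame.x₀, ind, I.mem_S₄]
    · intro u v hu hv h1 h2
      obtain ⟨hm, hp⟩ := S.conj_member (S.lift_mem hu) (S.lift_mem hv) hu hv (S.lift_img hu) (S.lift_img hv)
      have hc : Commute q' (S.lift (tv u v) * (S.lift u * S.lift v * S.lift u)) :=
        hcR (S.A_le_R (hv.tv hu.2) (S.mul_mem_A (S.lift_mem (hv.tv hu.2)) hm (S.lift_img (hv.tv hu.2)) hp))
      have := hc.mul_right ((h1.mul_right h2).mul_right h1)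
      rwa [mul_assoc, mul_self S.cls.1 hm, mul_one] at this
  have hq'1 : q' = 1 := by
    have hc : q' ∈ Subgroup.center G := mem_center_of_commute S.cls.2.2 fun d hd => by
      obtain ⟨v, hv, hdv⟩ := S.exists_vec hd
      have := (hcR (S.A_le_R hv (S.mul_mem_A hd (S.lift_mem hv) hdv (S.lift_img hv)))).mul_right (hall v hv)
      rwa [mul_assoc, mul_self S.cls.1 (S.lift_mem hv), mul_one] at this
    rwa [S.center, Subgroup.mem_bot] at hc
  rw [hq', mul_eq_one_iff_eq_inv] at hq'1
  rw [← inv_inv q, ← hq'1]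
  exact inv_mem hT'

include S in
theorem elementary (I : Frame n) : IsElementaryAbelian 2 (pCore 2 G) := by
  rw [S.radical_eq I]
  refine ⟨⟨⟨fun x y => Subtype.ext (S.R_commute x.2 y.2)⟩⟩, fun x hx => ?_⟩
  rw [pow_two, S.R_sq hx]

end Setup

end CfsgLib.TwoRadicalSU
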