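import Cfsg.Agent.Lib.TwoRadicalSU.Coord

/-!
# The transvection at the standard point of weight four
-/

set_option autoImplicit false
set_option linter.unusedSectionVars false

namespace CfsgLib.TwoRadicalSU

open CfsgLib.TwoRadical Matrix

theorem key_x₀ : (1 : GF4) + GF4.w ^ 2 * 1 ≠ 0 ∧ GF4.w ^ 2 + GF4.w + 1 = 0 := by decide +kernel

namespace UMod

variable {n : ℕ} {V : Type*} [AddCommGroup V] (M : UMod n V) (I : Frame n)

/-- Coordinates. -/
noncomputable def coord : (Fin n → M.W I) ≃+ V := AddEquiv.ofBijective (M.Ψ I) (M.Ψ_bijective I)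

theorem coord_apply (f : Fin n → M.W I) : M.coord I f = M.Ψ I f := rfl

/-- `1 + τ` at the standard point, in coordinates. -/
noncomputable def phi : (Fin n → M.W I) →+ (Fin n → M.W I) :=
  (M.coord I).symm.toAddMonoidHom.comp ((AddMonoidHom.id V + M.tau I.x₀).comp (M.coord I).toAddMonoidHom)

theorem Ψ_phi (f : Fin n → M.W I) : M.Ψ I (M.phi I f) = M.Ψ I f + M.tau I.x₀ (M.Ψ I f) := by
  simp [phi, ← coord_apply]

theorem tau_Ψ (f : Fin n → M.W I) : M.tau I.x₀ (M.Ψ I f) = M.Ψ I (f + M.phi I f) := by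
  rw [map_add, Ψ_phi, ← add_assoc, M.add_self, zero_add]

/-- A monomial transvection in coordinates. -/
def rf (i j : Fin n) (a : GF4) : (Fin n → M.W I) →+ (Fin n → M.W I) where
  toFun f k := if k = i then M.sm I (a ^ 2) (f j) else if k = j then M.sm I a (f i) else f k
  map_zero' := by funext k; simp
  map_add' f g := by funext k; simp only [Pi.add_apply]; split_ifs <;> simp

theorem rf_apply (i j : Fin n) (a : GF4) (f : Fin n → M.W I) (k : Fin n) :
    M.rf I i j a f k = if k = i then M.sm I (a ^ 2) (f j) else if k = j then M.sm I a (f i) else f k := rfl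

theorem r_Ψ' {i j : Fin n} (hij : i ≠ j) {a : GF4} (ha : a ≠ 0) (f : Fin n → M.W I) :
    M.r i j a (M.Ψ I f) = M.Ψ I (M.rf I i j a f) := M.r_Ψ I hij ha f

theorem rf_single {i j : Fin n} (hij : i ≠ j) {a : GF4} (x : M.W I) :
    M.rf I i j a (Pi.single i x) = Pi.single j (M.sm I a x) := by
  funext k
  rw [rf_apply]
  by_cases hi : k = i
  · subst hi; rw [if_pos rfl, Pi.single_eq_of_ne hij, Pi.single_eq_of_ne hij.symm, map_zero]
  · rw [if_neg hi]
    by_cases hj : k = j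
    · subst hj; rw [if_pos rfl, Pi.single_eq_same, Pi.single_eq_same]
    · rw [if_neg hj, Pi.single_eq_of_ne hi, Pi.single_eq_of_ne hj]

theorem A_coord {f : Fin n → M.W I} (hf' : M.Ψ I f ∈ M.A I.x₀) :
    (∀ p ∈ I.S₄, f p = f I.a) ∧ ∀ k l, k ∉ I.S₄ → l ∉ I.S₄ → k ≠ l → f k = 0 := by
  have hfix : ∀ {i j : Fin n} {a : GF4}, i ≠ j → a ≠ 0 → hf (pv i j a) I.x₀ = 0 → M.rf I i j a f = f :=
    fun hij ha h => (M.Ψ_bijective I).1 (by
      rw [← M.r_Ψ' I hij ha]; exact M.perp _ _ (iso_pv hij ha) I.iso_x₀ h _ hf')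
  have hval : ∀ {i j : Fin n} (a : GF4), hf (pv i j a) I.x₀ = (I.x₀ i + a ^ 2 * I.x₀ j) ^ 2 := fun a => by
    rw [hf_symm, hf_pv]
  constructor
  · intro p hp
    by_cases h : p = I.a
    · rw [h]
    have := congrFun (hfix (Ne.symm h) one_ne_zero (by
      rw [hval, Frame.x₀, ind, ind, if_pos (I.mem_S₄.2 (Or.inl rfl)), if_pos hp]; decide +kernel)) p
    rw [rf_apply, if_neg h, if_pos rfl, sm_one] at this
    exact this.symm
  · intro k l hk hl hkl
    have h0 : ∀ (a : GF4), a ≠ 0 → M.sm I a (f k) = f l := by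
      intro a ha
      have := congrFun (hfix hkl ha (by rw [hval, Frame.x₀, ind, ind, if_neg hk, if_neg hl]; simp)) l
      rwa [rf_apply, if_neg hkl.symm, if_pos rfl] at this
    have h1 : M.sm I GF4.w (f k) = M.sm I 1 (f k) := by rw [h0 _ K.w_ne.1, h0 _ one_ne_zero]
    have h2 : M.sm I (GF4.w ^ 2) (f k) = 0 := by
      rw [← K.w_rel.2.1, sm_add, h1, W_add_self]
    have h3 := congrArg (M.sm I GF4.w) h2
    rwa [← sm_mul, K.w_rel.2.2.2, sm_one, map_zero] at h3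

theorem phi_mem (f : Fin n → M.W I) : M.Ψ I (M.phi I f) ∈ M.A I.x₀ := by
  rw [Ψ_phi]; exact M.step _ I.iso_x₀ _

theorem phi_S₄ (f : Fin n → M.W I) {p : Fin n} (hp : p ∈ I.S₄) : M.phi I f p = M.phi I f I.a :=
  (M.A_coord I (M.phi_mem I f)).1 p hp

theorem phi_out (f : Fin n → M.W I) {k l : Fin n} (hk : k ∉ I.S₄) (hl : l ∉ I.S₄) (hkl : k ≠ l) :
    M.phi I f k = 0 :=
  (M.A_coord I (M.phi_mem I f)).2 k l hk hl hkl

theorem phi_phi (f : Fin n → M.W I) : M.phi I (M.phi I f) = 0 := by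
  refine (M.Ψ_bijective I).1 ?_
  rw [map_zero, Ψ_phi, M.perp _ _ I.iso_x₀ I.iso_x₀ I.iso_x₀.2 _ (M.phi_mem I f), M.add_self]

theorem phi_rf {i j : Fin n} (hij : i ≠ j) {a : GF4} (ha : a ≠ 0) (h : hf I.x₀ (pv i j a) = 0)
    (f : Fin n → M.W I) : M.phi I (M.rf I i j a f) = M.phi I f := by
  refine (M.Ψ_bijective I).1 ?_
  have hp := M.perp _ _ (iso_pv hij ha) I.iso_x₀ (hf_zero_symm h) _ (M.phi_mem I f)
  rw [Ψ_phi, ← M.r_Ψ' I hij ha]
  rw [Ψ_phi, map_add] at hp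
  rw [Ψ_phi, show M.tau I.x₀ (M.r i j a (M.Ψ I f)) = M.r i j a (M.tau I.x₀ (M.Ψ I f)) by
    rw [r, M.swap I.iso_x₀ (iso_pv hij ha), tv_perp (hf_zero_symm h)]]
  exact hp

/-- The diagonal element in coordinates. -/
def zf (f : Fin n → M.W I) : Fin n → M.W I := fun k =>
  if k ∈ I.S₄ then M.sm I GF4.w (f k) else if k = I.e then M.sm I (GF4.w ^ 2) (f k) else f k

theorem U_Ψ {i j : Fin n} (hij : i ≠ j) (f : Fin n → M.W I) :
    M.U i j (M.Ψ I f) = M.Ψ I (fun k => if k = i then M.sm I GF4.w (f k) else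
      if k = j then M.sm I (GF4.w ^ 2) (f k) else f k) := by
  rw [U_apply, M.r_Ψ' I hij one_ne_zero, M.r_Ψ' I hij K.w_ne.2.2.2.2]
  congr 1
  funext k
  simp only [rf_apply]
  by_cases hi : k = i
  · subst hi; simp [hij.symm, sm_one, K.sq_sq]
  · by_cases hj : k = j
    · subst hj; simp [hi, sm_one]
    · simp [hi, hj]

theorem z_Ψ (f : Fin n → M.W I) :
    M.U I.a I.e (M.U I.b I.e (M.U I.c I.e (M.U I.d I.e (M.Ψ I f)))) = M.Ψ I (M.zf I f) := by
  rw [M.U_Ψ I I.de, M.U_Ψ I I.ce, M.U_Ψ I I.be, M.U_Ψ I I.ae]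
  congr 1
  funext k
  by_cases he : k = I.e
  · subst he
    have : I.e ∉ I.S₄ := by simp [I.mem_S₄, I.ae.symm, I.be.symm, I.ce.symm, I.de.symm]
    simp only [zf, if_neg this, if_true, I.ae.symm, I.be.symm, I.ce.symm, I.de.symm, if_false, ← sm_mul]
    congr 1
  · by_cases ha : k = I.a
    · subst ha; simp [zf, I.mem_S₄, he, I.ab, I.ac, I.ad, I.ae]
    by_cases hb : k = I.b
    · subst hb; simp [zf, I.mem_S₄, he, I.ab.symm, I.bc, I.bd, I.be]
    by_cases hc : k = I.c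
    · subst hc; simp [zf, I.mem_S₄, he, I.ac.symm, I.bc.symm, I.cd, I.ce]
    by_cases hd : k = I.d
    · subst hd; simp [zf, I.mem_S₄, he, I.ad.symm, I.bd.symm, I.cd.symm, I.de]
    simp [zf, I.mem_S₄, he, ha, hb, hc, hd]

theorem phi_zf (f : Fin n → M.W I) : M.phi I (M.zf I f) = M.zf I (M.phi I f) := by
  refine (M.Ψ_bijective I).1 ?_
  rw [Ψ_phi, ← M.z_Ψ I f, ← M.z_Ψ I (M.phi I f), ← M.z_x₀ I, Ψ_phi]
  simp only [map_add]

theorem not_mem_S₄ : I.e ∉ I.S₄ := by simp [I.mem_S₄, I.ae.symm, I.be.symm, I.ce.symm, I.de.symm]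

theorem mem_a : I.a ∈ I.S₄ := I.mem_S₄.2 (Or.inl rfl)

/-- The semilinear map. -/
noncomputable def eps : M.W I →+ M.W I where
  toFun x := M.phi I (Pi.single I.a x) I.e
  map_zero' := by simp
  map_add' x y := by simp [Pi.single_add]

theorem eps_apply (x : M.W I) : M.eps I x = M.phi I (Pi.single I.a x) I.e := rfl

theorem phi_single_mem {p : Fin n} (hp : p ∈ I.S₄) (x : M.W I) :
    M.phi I (Pi.single p x) = M.phi I (Pi.single I.a x) := by
  by_cases h : p = I.a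
  · rw [h]
  rw [← M.phi_rf I (Ne.symm h) one_ne_zero (a := 1) ?_ (Pi.single I.a x), M.rf_single I (Ne.symm h), sm_one]
  rw [hf_pv, Frame.x₀, ind, ind, if_pos (I.mem_S₄.2 (Or.inl rfl)), if_pos hp]
  decide +kernel

theorem phi_single_out {k l : Fin n} (hk : k ∉ I.S₄) (hl : l ∉ I.S₄) (hkl : k ≠ l) (x : M.W I) :
    M.phi I (Pi.single l x) = 0 := by
  have h : ∀ a : GF4, a ≠ 0 → ∀ y, M.phi I (Pi.single l (M.sm I a y)) = M.phi I (Pi.single k y) := by
    intro a ha y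
    rw [← M.rf_single I hkl (a := a), M.phi_rf I hkl ha]
    rw [hf_pv, Frame.x₀, ind, ind, if_neg hk, if_neg hl]; simp
  have h2 : ∀ y, M.phi I (Pi.single l (M.sm I (GF4.w ^ 2) y)) = 0 := fun y => by
    have e1 := h _ K.w_ne.1 y
    have e2 := h _ one_ne_zero y
    rw [sm_one] at e2
    rw [← K.w_rel.2.1, sm_add, sm_one, Pi.single_add, map_add, e2, e1]
    exact funext fun i => M.W_add_self I _
  have := h2 (M.sm I GF4.w x)
  rwa [← sm_mul, mul_comm, K.w_rel.2.2.2, sm_one] at this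

theorem sum_S₄ (F : Fin n → M.W I) : ∑ p ∈ I.S₄, F p = F I.a + F I.b + F I.c + F I.d := by
  rw [Frame.S₄, Finset.sum_insert (by simp [I.ab, I.ac, I.ad]), Finset.sum_insert (by simp [I.bc, I.bd]),
    Finset.sum_insert (by simp [I.cd]), Finset.sum_singleton]
  abel

theorem phi_eq (f : Fin n → M.W I) :
    M.phi I f = M.phi I (Pi.single I.a (∑ p ∈ I.S₄, f p)) + M.phi I (Pi.single I.e (f I.e)) := by
  conv_lhs => rw [← Finset.univ_sum_single f, map_sum]
  have hsub : insert I.e I.S₄ ⊆ (Finset.univ : Finset (Fin n)) := Finset.subset_univ _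
  rw [← Finset.sum_subset hsub fun k _ hk => M.phi_single_out I (not_mem_S₄ I)
    (fun h => hk (Finset.mem_insert_of_mem h)) (fun h => hk (h ▸ Finset.mem_insert_self _ _)) _,
    Finset.sum_insert (not_mem_S₄ I), add_comm]
  congr 1
  rw [Finset.sum_congr rfl fun p hp => M.phi_single_mem I hp (f p)]
  rw [← map_sum]
  congr 1
  exact (map_sum (AddMonoidHom.single (fun _ : Fin n => M.W I) I.a) _ _).symm

theorem braid_x₀ {i j : Fin n} (hij : i ≠ j) {a : GF4} (ha : a ≠ 0) (h : hf I.x₀ (pv i j a) ≠ 0)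
    (f : Fin n → M.W I) :
    M.rf I i j a (M.rf I i j a f + M.phi I (M.rf I i j a f)) =
      M.rf I i j a (f + M.phi I f) + M.phi I (M.rf I i j a (f + M.phi I f)) := by
  refine (M.Ψ_bijective I).1 ?_
  rw [← M.tau_Ψ I (M.rf I i j a (f + M.phi I f)), ← M.r_Ψ' I hij ha, ← M.r_Ψ' I hij ha, ← M.tau_Ψ I f,
    ← M.tau_Ψ I (M.rf I i j a f), ← M.r_Ψ' I hij ha, r, M.conj _ _ (iso_pv hij ha) I.iso_x₀,
    M.conj _ _ I.iso_x₀ (iso_pv hij ha)]
  have e : hf I.x₀ (pv i j a) • tv I.x₀ (pv i j a) = tv (pv i j a) I.x₀ := by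
    funext k
    simp only [tv, Pi.add_apply, Pi.smul_apply, smul_eq_mul, mul_add, ← mul_assoc]
    rw [hf_symm I.x₀ (pv i j a), K.cube _ h, one_mul, add_comm]
  rw [← e, M.tau_smul _ _ ((iso_pv hij ha).tv I.iso_x₀.2) h]

theorem sm_w_fpf {x : M.W I} (h : M.sm I GF4.w x = x) : x = 0 := by
  have h2 : M.sm I (GF4.w ^ 2) x = 0 := by rw [← K.w_rel.2.1, sm_add, sm_one, h, W_add_self]
  have h3 := congrArg (M.sm I GF4.w) h2
  rwa [← sm_mul, K.w_rel.2.2.2, sm_one, map_zero] at h3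

theorem phi_a (x : M.W I) : M.phi I (Pi.single I.a x) I.a = x := by
  set F : M.W I → M.W I := fun y => M.phi I (Pi.single I.a y) I.a with hF
  show F x = x
  have hFadd : ∀ y z, F (y + z) = F y + F z := fun y z => by simp [hF, Pi.single_add]
  have hFw : ∀ y, F (M.sm I GF4.w y) = M.sm I GF4.w (F y) := fun y => by
    have h1 : M.zf I (Pi.single I.a y) = Pi.single I.a (M.sm I GF4.w y) := by
      funext k
      by_cases hk : k = I.a
      · subst hk; simp [zf, mem_a I]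
      · simp only [zf, Pi.single_eq_of_ne hk, map_zero]; split_ifs <;> rfl
    have h2 := congrFun (M.phi_zf I (Pi.single I.a y)) I.a
    rw [h1] at h2
    simp only [zf, if_pos (mem_a I)] at h2
    exact h2
  have hbb : ∀ y, M.phi I (Pi.single I.b y) = M.phi I (Pi.single I.a y) :=
    M.phi_single_mem I (I.mem_S₄.2 (Or.inr (Or.inl rfl)))
  have hS : ∀ {p : Fin n}, p ∈ I.S₄ → ∀ y, M.phi I (Pi.single I.a y) p = F y := fun hp y => M.phi_S₄ I _ hp
  -- the square of `1 + τ`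
  have hFF : F (F x) = F x := by
    have h0 := congrFun (M.phi_phi I (Pi.single I.a x)) I.a
    rw [M.phi_eq I, M.sum_S₄ I, hS (mem_a I), hS (I.mem_S₄.2 (Or.inr (Or.inl rfl))),
      hS (I.mem_S₄.2 (Or.inr (Or.inr (Or.inl rfl)))), hS (I.mem_S₄.2 (Or.inr (Or.inr (Or.inr rfl))))] at h0
    have hz : F x + F x + F x + F x = 0 := by rw [M.W_add_self I, zero_add, M.W_add_self I]
    rw [hz, Pi.single_zero, map_zero, zero_add] at h0
    have hb := M.braid_x₀ I I.ab K.w_ne.1 (by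
      rw [hf_pv, Frame.x₀, ind, ind, if_pos (mem_a I), if_pos (I.mem_S₄.2 (Or.inr (Or.inl rfl)))]
      exact key_x₀.1) (Pi.single I.a x)
    have hc := congrFun hb I.c
    rw [M.rf_single I I.ab] at hc
    simp only [rf_apply, Pi.add_apply, if_neg I.ac.symm, if_neg I.bc.symm, Pi.single_eq_of_ne I.bc.symm,
      Pi.single_eq_of_ne I.ac.symm, zero_add, hbb, hS (I.mem_S₄.2 (Or.inr (Or.inr (Or.inl rfl))))] at hc
    rw [M.phi_eq I, M.sum_S₄ I] at hc
    simp only [rf_apply, Pi.add_apply, if_pos, if_neg I.ac.symm, if_neg I.bc.symm, if_neg I.ad.symm,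
      if_neg I.bd.symm, if_neg I.ab.symm, if_neg I.ae.symm, if_neg I.be.symm, Pi.single_eq_same,
      Pi.single_eq_of_ne I.ab.symm, Pi.single_eq_of_ne I.ac.symm, Pi.single_eq_of_ne I.ad.symm,
      Pi.single_eq_of_ne I.ae.symm, zero_add, hS (mem_a I), hS (I.mem_S₄.2 (Or.inr (Or.inl rfl))),
      hS (I.mem_S₄.2 (Or.inr (Or.inr (Or.inl rfl)))), hS (I.mem_S₄.2 (Or.inr (Or.inr (Or.inr rfl))))] at hc
    have hsum : M.sm I (GF4.w ^ 2) (F x) + M.sm I GF4.w (x + F x) + F x + F x = M.sm I GF4.w x + F x := by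
      rw [add_assoc _ (F x) (F x), M.W_add_self I, add_zero, map_add, add_left_comm, ← sm_add, add_comm (GF4.w ^ 2),
        K.w_rel.1, sm_one]
    rw [hsum, M.phi_S₄ I _ (I.mem_S₄.2 (Or.inr (Or.inr (Or.inl rfl)))), h0, Pi.zero_apply, add_zero, hFadd]
      at hc
    have h5 : F x + F (F x) = 0 := by
      rw [add_left_comm] at hc
      exact left_eq_add.mp hc
    exact ((add_eq_zero_iff_eq_neg.1 h5).trans (neg_eq_of_add_eq_zero_left (M.W_add_self I _))).symm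
  have hb := M.braid_x₀ I I.ab K.w_ne.1 (by
    rw [hf_pv, Frame.x₀, ind, ind, if_pos (mem_a I), if_pos (I.mem_S₄.2 (Or.inr (Or.inl rfl)))]
    exact key_x₀.1) (Pi.single I.a x)
  have ha := congrFun hb I.a
  have hb' := I.mem_S₄.2 (Or.inr (Or.inl rfl : I.b = I.b ∨ I.b = I.c ∨ I.b = I.d))
  have hsub : ∀ {p : Fin n}, p ∈ I.S₄ → ∀ y, M.phi I (Pi.single I.e y) p = M.phi I (Pi.single I.e y) I.a :=
    fun hp y => M.phi_S₄ I _ hp
  have h0 := congrFun (M.phi_phi I (Pi.single I.a x)) I.a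
  rw [M.phi_eq I, M.sum_S₄ I, hS (mem_a I), hS hb',
    hS (I.mem_S₄.2 (Or.inr (Or.inr (Or.inl rfl)))), hS (I.mem_S₄.2 (Or.inr (Or.inr (Or.inr rfl))))] at h0
  have hz : F x + F x + F x + F x = 0 := by rw [M.W_add_self I, zero_add, M.W_add_self I]
  rw [hz, Pi.single_zero, map_zero, zero_add] at h0
  rw [M.rf_single I I.ab] at ha
  simp only [rf_apply, Pi.add_apply, if_pos, Pi.single_eq_same, hbb, hS hb', hS (mem_a I)] at ha
  rw [M.phi_eq I, M.sum_S₄ I] at ha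
  simp only [rf_apply, Pi.add_apply, if_pos, if_neg I.ac.symm, if_neg I.bc.symm, if_neg I.ad.symm,
    if_neg I.bd.symm, if_neg I.ab.symm, if_neg I.ae.symm, if_neg I.be.symm, Pi.single_eq_same,
    Pi.single_eq_of_ne I.ab.symm, Pi.single_eq_of_ne I.ac.symm, Pi.single_eq_of_ne I.ad.symm,
    Pi.single_eq_of_ne I.ae.symm, zero_add, hS (mem_a I), hS hb',
    hS (I.mem_S₄.2 (Or.inr (Or.inr (Or.inl rfl)))), hS (I.mem_S₄.2 (Or.inr (Or.inr (Or.inr rfl))))] at ha
  have hsum : M.sm I (GF4.w ^ 2) (F x) + M.sm I GF4.w (x + F x) + F x + F x = M.sm I GF4.w x + F x := by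
    rw [add_assoc _ (F x) (F x), M.W_add_self I, add_zero, map_add, add_left_comm, ← sm_add, add_comm (GF4.w ^ 2),
      K.w_rel.1, sm_one]
  have e2 : GF4.w ^ 2 * GF4.w = 1 := by decide +kernel
  simp only [hsum, h0, Pi.zero_apply, add_zero, hFadd, hFw, map_add, ← sm_mul, e2, sm_one, hFF] at ha
  have hFw2 : F (M.sm I (GF4.w ^ 2) (F x)) = M.sm I (GF4.w ^ 2) (F x) := by
    rw [pow_two, sm_mul, hFw, hFw, hFF]
  simp only [hFw2, M.W_add_self I, add_zero] at ha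
  simp only [add_assoc, M.W_add_self I, add_zero] at ha
  exact ((add_eq_zero_iff_eq_neg.1 ha).trans (neg_eq_of_add_eq_zero_left (M.W_add_self I _))).symm

theorem phi_out' (f : Fin n → M.W I) {k : Fin n} (hk : k ∉ I.S₄) (hke : k ≠ I.e) : M.phi I f k = 0 :=
  M.phi_out I f hk (not_mem_S₄ I) hke

theorem phi_e_facts (x : M.W I) : M.phi I (Pi.single I.e x) I.a = M.eps I x ∧
    M.phi I (Pi.single I.e x) I.e = 0 ∧ M.eps I (M.eps I x) = 0 := by
  have hb' : I.b ∈ I.S₄ := I.mem_S₄.2 (Or.inr (Or.inl rfl))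
  have hc' : I.c ∈ I.S₄ := I.mem_S₄.2 (Or.inr (Or.inr (Or.inl rfl)))
  have hd' : I.d ∈ I.S₄ := I.mem_S₄.2 (Or.inr (Or.inr (Or.inr rfl)))
  have hS : ∀ {p : Fin n}, p ∈ I.S₄ → ∀ y, M.phi I (Pi.single I.a y) p = y := fun hp y => by
    rw [M.phi_S₄ I _ hp, M.phi_a I]
  set g := Pi.single I.a x + M.phi I (Pi.single I.a x) with hg
  have ga : g I.a = 0 := by rw [hg, Pi.add_apply, Pi.single_eq_same, hS (mem_a I), M.W_add_self I]
  have gp : ∀ {p : Fin n}, p ∈ I.S₄ → p ≠ I.a → g p = x := fun hp hpa => by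
    rw [hg, Pi.add_apply, Pi.single_eq_of_ne hpa, hS hp, zero_add]
  have ge : g I.e = M.eps I x := by rw [hg, Pi.add_apply, Pi.single_eq_of_ne I.ae.symm, zero_add, eps_apply]
  set g' := M.rf I I.a I.e 1 g with hg'
  have g'a : g' I.a = M.eps I x := by rw [hg', rf_apply, if_pos rfl, one_pow, sm_one, ge]
  have g'e : g' I.e = 0 := by rw [hg', rf_apply, if_neg I.ae.symm, if_pos rfl, sm_one, ga]
  have g'p : ∀ {p : Fin n}, p ∈ I.S₄ → p ≠ I.a → g' p = x := fun {p} hp hpa => by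
    rw [hg', rf_apply, if_neg hpa, if_neg (show p ≠ I.e from fun h => not_mem_S₄ I (h ▸ hp)), gp hp hpa]
  have hphi : M.phi I g' = M.phi I (Pi.single I.a (M.eps I x + x)) := by
    rw [M.phi_eq I g', M.sum_S₄ I, g'a, g'e, g'p hb' I.ab.symm, g'p hc' I.ac.symm, g'p hd' I.ad.symm,
      Pi.single_zero, map_zero, add_zero, add_assoc (M.eps I x + x), M.W_add_self I, add_zero]
  have hb := M.braid_x₀ I I.ae one_ne_zero (by
    rw [hf_pv, Frame.x₀, ind, ind, if_pos (mem_a I), if_neg (not_mem_S₄ I)]; simp) (Pi.single I.a x)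
  rw [M.rf_single I I.ae, sm_one, ← hg, ← hg', hphi] at hb
  have h1 := congrFun hb I.a
  have h2 := congrFun hb I.b
  have h3 := congrFun hb I.e
  simp only [rf_apply, Pi.add_apply, if_pos, if_neg I.ae.symm, if_neg I.ab.symm, if_neg I.be, one_pow, sm_one,
    Pi.single_eq_same, Pi.single_eq_of_ne I.be, Pi.single_eq_of_ne I.ae, zero_add, g'a, g'e, g'p hb' I.ab.symm,
    hS (mem_a I), hS hb', M.phi_S₄ I (Pi.single I.e x) hb'] at h1 h2 h3
  rw [← add_assoc (M.eps I x), M.W_add_self I, zero_add, add_eq_left] at h1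
  rw [add_left_comm, M.W_add_self I, add_zero] at h2
  refine ⟨h2, h1, ?_⟩
  rw [← eps_apply, map_add, h2] at h3
  exact right_eq_add.mp h3

/-- The closed formula. -/
theorem phi_formula (f : Fin n → M.W I) (k : Fin n) :
    M.phi I f k = if k ∈ I.S₄ then (∑ p ∈ I.S₄, f p) + M.eps I (f I.e)
      else if k = I.e then M.eps I (∑ p ∈ I.S₄, f p) else 0 := by
  by_cases hk : k ∈ I.S₄
  · rw [if_pos hk, M.phi_S₄ I f hk, M.phi_eq I f, Pi.add_apply, M.phi_a I, (M.phi_e_facts I _).1]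
  rw [if_neg hk]
  by_cases he : k = I.e
  · rw [if_pos he, he, M.phi_eq I f, Pi.add_apply, (M.phi_e_facts I _).2.1, add_zero, eps_apply]
  · rw [if_neg he, M.phi_out' I f hk he]

theorem eps_eps (x : M.W I) : M.eps I (M.eps I x) = 0 := (M.phi_e_facts I x).2.2

theorem eps_sm (a : GF4) (x : M.W I) : M.eps I (M.sm I a x) = M.sm I (a ^ 2) (M.eps I x) := by
  have hw : ∀ y, M.eps I (M.sm I GF4.w y) = M.sm I (GF4.w ^ 2) (M.eps I y) := fun y => by
    have h1 : M.zf I (Pi.single I.a y) = Pi.single I.a (M.sm I GF4.w y) := by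
      funext k
      by_cases hk : k = I.a
      · subst hk; simp [zf, mem_a I]
      · simp only [zf, Pi.single_eq_of_ne hk, map_zero]; split_ifs <;> rfl
    have h2 := congrFun (M.phi_zf I (Pi.single I.a y)) I.e
    rw [h1] at h2
    simp only [zf, if_neg (not_mem_S₄ I), if_pos] at h2
    exact h2
  rcases K.cases a with rfl | rfl | rfl | rfl
  · simp [sm_zero]
  · simp [sm_one]
  · exact hw x
  · rw [K.sq_sq, pow_two, sm_mul, hw, hw, ← sm_mul]
    congr 1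

/-- The products over the standard point of weight four are exactly the commutators. -/
theorem A_x₀_le {y : V} (hy : y ∈ M.A I.x₀) : ∃ v, y = v + M.tau I.x₀ v := by
  obtain ⟨f, rfl⟩ := (M.Ψ_bijective I).2 y
  obtain ⟨hS, hout⟩ := M.A_coord I hy
  have hb' : I.b ∈ I.S₄ := I.mem_S₄.2 (Or.inr (Or.inl rfl))
  have hc' : I.c ∈ I.S₄ := I.mem_S₄.2 (Or.inr (Or.inr (Or.inl rfl)))
  have hd' : I.d ∈ I.S₄ := I.mem_S₄.2 (Or.inr (Or.inr (Or.inr rfl)))
  set v₁ := tv (pv I.d I.e 1) I.x₀ with hv₁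
  set v₂ := tv (pv I.a I.c GF4.w) v₁ with hv₂
  have hde := iso_pv I.de (one_ne_zero (α := GF4))
  have hac := iso_pv I.ac K.w_ne.1
  have hv₁i : Iso v₁ := I.iso_x₀.tv hde.2
  have hperp : hf v₂ I.x₀ = 0 := by
    rw [Frame.x₀, hf_ind, Frame.S₄, Finset.sum_insert (by simp [I.ab, I.ac, I.ad]),
      Finset.sum_insert (by simp [I.bc, I.bd]), Finset.sum_insert (by simp [I.cd]), Finset.sum_singleton]
    simp [hv₂, hv₁, tv_pv I.ac K.w_ne.1, tv_pv I.de (one_ne_zero (α := GF4)), I.ab, I.ac, I.ad, I.ae, I.bc,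
      I.bd, I.be, I.cd, I.ce, I.de, I.ab.symm, I.ac.symm, I.ad.symm, I.ae.symm, I.bc.symm, I.bd.symm, I.be.symm,
      I.cd.symm, I.ce.symm, I.de.symm, Frame.x₀, ind, mem_a I, hb', hc', not_mem_S₄ I]
    rw [← add_assoc, add_right_comm]
    exact key_x₀.2
  have hfix := M.perp _ _ (hv₁i.tv hac.2) I.iso_x₀ hperp _ hy
  rw [← M.conj _ _ hac hv₁i, ← M.conj _ _ hde I.iso_x₀] at hfix
  have hr1 : ∀ g, M.tau (pv I.a I.c GF4.w) (M.Ψ I g) = M.Ψ I (M.rf I I.a I.c GF4.w g) :=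
    fun g => M.r_Ψ' I I.ac K.w_ne.1 g
  have hr2 : ∀ g, M.tau (pv I.d I.e 1) (M.Ψ I g) = M.Ψ I (M.rf I I.d I.e 1 g) :=
    fun g => M.r_Ψ' I I.de one_ne_zero g
  rw [hr1, hr2, M.tau_Ψ, hr2, hr1] at hfix
  set g := M.rf I I.d I.e 1 (M.rf I I.a I.c GF4.w f) with hg
  have hphi : M.phi I g = 0 := by
    have h' := (M.Ψ_bijective I).1 hfix
    have e : M.rf I I.d I.e 1 (M.rf I I.a I.c GF4.w (M.rf I I.a I.c GF4.w (M.rf I I.d I.e 1 (g + M.phi I g)))) =
        M.rf I I.d I.e 1 (M.rf I I.a I.c GF4.w f) := by rw [h']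
    have hinv : ∀ {i j : Fin n} {a : GF4}, i ≠ j → a ≠ 0 → ∀ h, M.rf I i j a (M.rf I i j a h) = h :=
      fun hij ha h => (M.Ψ_bijective I).1 (by rw [← M.r_Ψ' I hij ha, ← M.r_Ψ' I hij ha, M.r_sq hij ha])
    rw [hinv I.ac K.w_ne.1, hinv I.de one_ne_zero, ← hg, add_eq_left] at e
    exact e
  have ha := congrFun hphi I.a
  rw [M.phi_formula I, if_pos (mem_a I), M.sum_S₄ I, Pi.zero_apply] at ha
  simp only [hg, rf_apply, if_pos, if_neg I.ad, if_neg I.ae, if_neg I.bd, if_neg I.be, if_neg I.ab.symm,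
    if_neg I.bc, if_neg I.cd, if_neg I.ce, if_neg I.ac.symm, if_neg I.de.symm, if_neg I.ad.symm,
    if_neg I.cd.symm, if_neg I.ae.symm, if_neg I.ce.symm, one_pow, sm_one,
    hS _ hb', hS _ hc', hS _ hd'] at ha
  have hsum : M.sm I (GF4.w ^ 2) (f I.a) + f I.a + M.sm I GF4.w (f I.a) = 0 := by
    rw [add_right_comm, ← sm_add, add_comm (GF4.w ^ 2), K.w_rel.1, sm_one, M.W_add_self I]
  rw [hsum, zero_add] at ha
  refine ⟨M.Ψ I (Pi.single I.a (f I.a)), ?_⟩
  rw [← Ψ_phi]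
  congr 1
  funext k
  rw [M.phi_formula I, M.sum_S₄ I, Pi.single_eq_same, Pi.single_eq_of_ne I.ab.symm, Pi.single_eq_of_ne I.ac.symm,
    Pi.single_eq_of_ne I.ad.symm, Pi.single_eq_of_ne I.ae.symm]
  simp only [add_zero, map_zero]
  by_cases hk : k ∈ I.S₄
  · rw [if_pos hk, hS k hk]
  rw [if_neg hk]
  by_cases he : k = I.e
  · rw [if_pos he, he, add_eq_zero_iff_eq_neg.1 ha]
    exact neg_eq_of_add_eq_zero_left (M.W_add_self I _)
  · rw [if_neg he, hout k I.e hk (not_mem_S₄ I) he]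

end UMod

end CfsgLib.TwoRadicalSU
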