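import Cfsg.Agent.Lib.TwoRadicalSU.Geom

/-!
# Modules with a transvection structure for `SU(n,2)`: the monomial part
-/

set_option autoImplicit false
set_option linter.unusedSectionVars false

namespace CfsgLib.TwoRadicalSU

open CfsgLib.TwoRadical Matrix

/-- An elementary abelian 2-group with one involution for each isotropic point. -/
structure UMod (n : ℕ) (V : Type*) [AddCommGroup V] where
  tau : Vec n → V →+ V
  A : Vec n → AddSubgroup V
  add_self : ∀ x : V, x + x = 0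
  tau_sq : ∀ v, Iso v → ∀ x, tau v (tau v x) = x
  tau_smul : ∀ v (a : GF4), Iso v → a ≠ 0 → tau (a • v) = tau v
  A_smul : ∀ v (a : GF4), Iso v → a ≠ 0 → A (a • v) = A v
  conj : ∀ u v, Iso u → Iso v → ∀ x, tau u (tau v (tau u x)) = tau (tv u v) x
  move : ∀ u v, Iso u → Iso v → ∀ x ∈ A v, tau u x ∈ A (tv u v)
  step : ∀ v, Iso v → ∀ x, x + tau v x ∈ A v
  perp : ∀ u v, Iso u → Iso v → hf u v = 0 → ∀ x ∈ A v, tau u x = x
  meet : ∀ u v, Iso u → Iso v → hf u v ≠ 0 → ∀ x ∈ A u, x ∈ A v → x = 0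
  fix_all : ∀ x, (∀ v, Iso v → tau v x = x) → x = 0

namespace UMod

variable {n : ℕ} {V : Type*} [AddCommGroup V] (M : UMod n V)
include M

theorem neg_eq (x : V) : -x = x := neg_eq_of_add_eq_zero_left (M.add_self x)

theorem eq_of_add {x y : V} (h : x + y = 0) : x = y := by
  rw [eq_neg_of_add_eq_zero_left h, M.neg_eq]

theorem add_cancel' (x y : V) : x + (x + y) = y := by rw [← add_assoc, M.add_self, zero_add]

theorem swap {u v : Vec n} (hu : Iso u) (hv : Iso v) (x : V) :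
    M.tau u (M.tau v x) = M.tau (tv u v) (M.tau u x) := by
  rw [← M.conj u v hu hv, M.tau_sq u hu]

theorem A_fix_zero {u v : Vec n} (hu : Iso u) (hv : Iso v) (h : hf v u ≠ 0) {x : V} (hx : x ∈ M.A v)
    (hfix : M.tau u x = x) : x = 0 := by
  refine M.meet v (tv u v) hv (hv.tv hu.2) ?_ x hx (by simpa [hfix] using M.move u v hu hv x hx)
  rw [tv, hf_add_right, hf_smul_right, hv.2, zero_add, mul_comm, K.cube _ h]
  exact one_ne_zero

theorem fix_of_prod {u v : Vec n} (hu : Iso u) (hv : Iso v) (h : hf u v ≠ 0) {x : V}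
    (hx : M.tau u (M.tau v x) = x) : M.tau u x = x ∧ M.tau v x = x := by
  have e : M.tau v x = M.tau u x := by
    conv_rhs => rw [← hx]
    rw [M.tau_sq u hu]
  have hz : x + M.tau v x = 0 := M.meet u v hu hv h _ (e ▸ M.step u hu x) (M.step v hv x)
  exact ⟨e ▸ (M.eq_of_add hz).symm, (M.eq_of_add hz).symm⟩

/-- The monomial involutions. -/
def r (i j : Fin n) (a : GF4) : V →+ V := M.tau (pv i j a)

section

variable {i j k l : Fin n} {a b : GF4}

theorem r_sq (h : i ≠ j) (ha : a ≠ 0) (x : V) : M.r i j a (M.r i j a x) = x := M.tau_sq _ (iso_pv h ha) x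

theorem r_swap (h : i ≠ j) (ha : a ≠ 0) : M.r j i (a ^ 2) = M.r i j a := by
  rw [r, r, pv_swap ha, M.tau_smul _ _ (iso_pv h ha) (pow_ne_zero 2 ha)]

theorem r_swap' (h : i ≠ j) (ha : a ≠ 0) : M.r i j (a ^ 2) = M.r j i a := M.r_swap h.symm ha

theorem r_conj (hij : i ≠ j) (hjk : j ≠ k) (hik : i ≠ k) (ha : a ≠ 0) (hb : b ≠ 0) (x : V) :
    M.r j k b (M.r i j a (M.r j k b x)) = M.r i k (a * b) x := by
  rw [r, r, M.conj _ _ (iso_pv hjk hb) (iso_pv hij ha), tv_pv_pv hij hjk hik hb]; rfl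

theorem r_conj' (hij : i ≠ j) (hjk : j ≠ k) (hik : i ≠ k) (ha : a ≠ 0) (hb : b ≠ 0) (x : V) :
    M.r i j a (M.r j k b (M.r i j a x)) = M.r i k (a * b) x := by
  rw [← M.r_swap hij ha, ← M.r_swap hjk hb,
    M.r_conj hjk.symm hij.symm hik.symm (pow_ne_zero 2 hb) (pow_ne_zero 2 ha),
    ← M.r_swap hik (mul_ne_zero ha hb), mul_pow, mul_comm (a ^ 2)]

theorem r_same (hij : i ≠ j) (ha : a ≠ 0) (hb : b ≠ 0) (x : V) :
    M.r i j a (M.r i j b (M.r i j a x)) = M.r i j (a ^ 2 * b ^ 2) x := by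
  rw [r, r, M.conj _ _ (iso_pv hij ha) (iso_pv hij hb), tv_pv_same hij ha hb,
    M.tau_smul _ _ (iso_pv hij (mul_ne_zero (pow_ne_zero 2 ha) (pow_ne_zero 2 hb)))
      (mul_ne_zero (pow_ne_zero 2 ha) hb)]
  rfl

theorem r_comm (hij : i ≠ j) (hkl : k ≠ l) (hki : k ≠ i) (hkj : k ≠ j) (hli : l ≠ i) (hlj : l ≠ j)
    (ha : a ≠ 0) (hb : b ≠ 0) (x : V) : M.r i j a (M.r k l b x) = M.r k l b (M.r i j a x) := by
  rw [r, r, M.swap (iso_pv hij ha) (iso_pv hkl hb), tv_perp (perp_pv hki hli hkj hlj a b)]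

/-- The element with eigenvalues `ω, ω²` on two coordinates. -/
def U (i j : Fin n) : V →+ V := (M.r i j (GF4.w ^ 2)).comp (M.r i j 1)

theorem U_apply (x : V) : M.U i j x = M.r i j (GF4.w ^ 2) (M.r i j 1 x) := rfl

theorem U_alt (h : i ≠ j) (x : V) : M.U i j x = M.r i j 1 (M.r i j GF4.w x) := by
  have e := M.r_same h one_ne_zero (K.w_ne).1 (M.r i j 1 x)
  rw [M.r_sq h one_ne_zero, one_pow, one_mul] at e
  rw [U_apply, e]

theorem U_swap (h : i ≠ j) (x : V) : M.U j i x = M.r i j GF4.w (M.r i j 1 x) := by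
  have e1 : M.r j i (GF4.w ^ 2) = M.r i j GF4.w := M.r_swap h (K.w_ne).1
  have e2 : M.r j i 1 = M.r i j 1 := by
    have := M.r_swap h (one_ne_zero (α := GF4))
    rwa [one_pow] at this
  rw [U_apply, e1, e2]

theorem U_inv (h : i ≠ j) (x : V) : M.U i j (M.U j i x) = x := by
  rw [M.U_alt h, M.U_swap h, M.r_sq h (K.w_ne).1, M.r_sq h one_ne_zero]

theorem U_sq (h : i ≠ j) (x : V) : M.U i j (M.U i j x) = M.U j i x := by
  have h0 := K.w_ne.1
  have h2 := K.w_ne.2.2.2.2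
  have h1 := M.r_same h h2 one_ne_zero (M.r i j (GF4.w ^ 2) x)
  rw [M.r_sq h h2, one_pow, mul_one, K.sq_sq] at h1
  rw [M.U_alt h (M.U i j x), U_apply, M.U_swap h]
  have h3 := M.r_same h h0 h2 (M.r i j GF4.w (M.r i j 1 x))
  conv_lhs => rw [show M.r i j GF4.w (M.r i j (GF4.w ^ 2) (M.r i j 1 x)) = M.r i j GF4.w (M.r i j (GF4.w ^ 2)
    (M.r i j GF4.w (M.r i j GF4.w (M.r i j 1 x)))) by rw [M.r_sq h h0]]
  rw [h3, show GF4.w ^ 2 * (GF4.w ^ 2) ^ 2 = 1 by decide +kernel, M.r_sq h one_ne_zero]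

theorem U_cube (h : i ≠ j) (x : V) : M.U i j (M.U i j (M.U i j x)) = x := by
  rw [M.U_sq h]; exact M.U_inv h.symm x

theorem U_move (hij : i ≠ j) (hjk : j ≠ k) (hik : i ≠ k) (ha : a ≠ 0) (x : V) :
    M.U i j (M.r j k a x) = M.r j k (GF4.w * a) (M.U i j x) := by
  have h2 := K.w_ne.2.2.2.2
  have e1 : ∀ y, M.r i j 1 (M.r j k a y) = M.r i k a (M.r i j 1 y) := fun y => by
    have := M.r_conj' hij hjk hik one_ne_zero ha (M.r i j 1 y)
    rwa [M.r_sq hij one_ne_zero, one_mul] at this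
  have e2 : ∀ y, M.r i j (GF4.w ^ 2) (M.r i k a y) = M.r j k (GF4.w * a) (M.r i j (GF4.w ^ 2) y) := fun y => by
    rw [← M.r_swap hij h2, K.sq_sq]
    have := M.r_conj' hij.symm hik hjk (K.w_ne).1 ha (M.r j i GF4.w y)
    rwa [M.r_sq hij.symm (K.w_ne).1] at this
  rw [U_apply, e1, e2, U_apply]

theorem U_disj_r (hij : i ≠ j) (hkl : k ≠ l) (hki : k ≠ i) (hkj : k ≠ j) (hli : l ≠ i) (hlj : l ≠ j)
    (ha : a ≠ 0) (x : V) : M.U i j (M.r k l a x) = M.r k l a (M.U i j x) := by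
  rw [U_apply, U_apply, M.r_comm hij hkl hki hkj hli hlj one_ne_zero ha,
    M.r_comm hij hkl hki hkj hli hlj K.w_ne.2.2.2.2 ha]

theorem U_comm_right (hij : i ≠ j) (hjk : j ≠ k) (hik : i ≠ k) (x : V) :
    M.U i j (M.U j k x) = M.U j k (M.U i j x) := by
  conv_lhs => rw [U_apply M (i := j), M.U_move hij hjk hik K.w_ne.2.2.2.2, M.U_move hij hjk hik one_ne_zero,
    K.w_rel.2.2.2, mul_one]
  rw [← M.U_alt hjk]

theorem U_inj (h : i ≠ j) : Function.Injective (M.U i j) :=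
  Function.LeftInverse.injective (g := M.U j i) fun x => M.U_inv h.symm x

theorem U_comm_left (hij : i ≠ j) (hjk : j ≠ k) (hik : i ≠ k) (x : V) :
    M.U i j (M.U i k x) = M.U i k (M.U i j x) := by
  have e : ∀ y, M.U j i (M.U i k y) = M.U i k (M.U j i y) := fun y => M.U_comm_right hij.symm hik hjk y
  apply M.U_inj hij.symm
  rw [M.U_inv hij.symm, e, M.U_inv hij.symm]

theorem U_comm (hij : i ≠ j) (hkl : k ≠ l) (x : V) : M.U i j (M.U k l x) = M.U k l (M.U i j x) := by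
  have inv_comm : ∀ {i j k l : Fin n}, k ≠ l → (∀ y, M.U i j (M.U k l y) = M.U k l (M.U i j y)) →
      ∀ y, M.U i j (M.U l k y) = M.U l k (M.U i j y) := by
    intro i j k l h hc y
    apply M.U_inj h
    rw [← hc, M.U_inv h, M.U_inv h]
  by_cases hki : k = i
  · subst hki
    by_cases hlj : l = j
    · subst hlj; rfl
    · exact M.U_comm_left hij (Ne.symm hlj) hkl x
  by_cases hlj : l = j
  · subst hlj
    by_cases hkj : k = l
    · exact absurd hkj hkl
    exact inv_comm hkl.symm (fun y => M.U_comm_right hij hkl.symm (Ne.symm hki) y) x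
  by_cases hkj : k = j
  · subst hkj
    by_cases hli : l = i
    · subst hli; rw [M.U_inv hij, M.U_inv hij.symm]
    · exact M.U_comm_right hij hkl (Ne.symm hli) x
  by_cases hli : l = i
  · subst hli
    exact (M.U_comm_right hkl hij (Ne.symm (Ne.symm hkj)) x).symm
  rw [U_apply M (i := k), M.U_disj_r hij hkl hki hkj hli hlj K.w_ne.2.2.2.2,
    M.U_disj_r hij hkl hki hkj hli hlj one_ne_zero]
  rfl

theorem U_compose (hij : i ≠ j) (hkj : k ≠ j) (hik : i ≠ k) (x : V) : M.U i j x = M.U i k (M.U k j x) := by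
  have h2 := K.w_ne.2.2.2.2
  have e : ∀ {a : GF4}, a ≠ 0 → ∀ y, M.r k j 1 (M.r i k a (M.r k j 1 y)) = M.r i j a y := fun ha y => by
    rw [M.r_conj hik hkj hij ha one_ne_zero, mul_one]
  rw [U_apply M (i := k) (j := j), M.U_move hik hkj hij h2, K.w_rel.2.2.2, U_apply M (i := i) (j := k)]
  rw [U_apply, ← e h2, ← e one_ne_zero, M.r_sq hkj one_ne_zero]

theorem r_fix_of_U (h : i ≠ j) {x : V} (hx : M.U i j x = x) (ha : a ≠ 0) : M.r i j a x = x := by
  have hne : hf (pv i j (GF4.w ^ 2)) (pv i j (1 : GF4)) ≠ 0 := by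
    rw [hf_pv, pv_left h, pv_right h, one_pow, one_mul]
    decide +kernel
  obtain ⟨h1, h2⟩ := M.fix_of_prod (iso_pv h K.w_ne.2.2.2.2) (iso_pv h one_ne_zero) hne hx
  have h1' : M.r i j (GF4.w ^ 2) x = x := h1
  have h2' : M.r i j 1 x = x := h2
  have h3 : M.r i j GF4.w x = x := by
    have := M.r_same h one_ne_zero K.w_ne.2.2.2.2 x
    rw [h2', h1', h2', one_pow, one_mul, K.sq_sq] at this
    exact this.symm
  rcases K.cases a with rfl | rfl | rfl | rfl
  exacts [absurd rfl ha, h2', h3, h1']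

theorem U_fix_of_r {x : V} (hx : ∀ a, a ≠ 0 → M.r i j a x = x) : M.U i j x = x := by
  rw [U_apply, hx 1 one_ne_zero, hx _ K.w_ne.2.2.2.2]

/-- The two-coordinate parts are fixed by disjoint elements. -/
theorem disj_fix (hij : i ≠ j) (hkl : k ≠ l) (hki : k ≠ i) (hkj : k ≠ j) (hli : l ≠ i) (hlj : l ≠ j)
    (x : V) : M.U k l (x + M.U i j x) = x + M.U i j x := by
  have h2 := K.w_ne.2.2.2.2
  have e : x + M.U i j x = (x + M.r i j 1 x) + (M.r i j 1 x + M.r i j (GF4.w ^ 2) (M.r i j 1 x)) := by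
    rw [U_apply, add_assoc x (M.r i j 1 x), M.add_cancel']
  have hA : ∀ {a : GF4}, a ≠ 0 → ∀ y ∈ M.A (pv i j a), M.U k l y = y := fun {a} ha y hy =>
    M.U_fix_of_r fun b hb => M.perp _ _ (iso_pv hkl hb) (iso_pv hij ha) (perp_pv hki hli hkj hlj a b) y hy
  rw [e, map_add]
  exact congrArg₂ (· + ·) (hA one_ne_zero _ (M.step _ (iso_pv hij one_ne_zero) x))
    (hA h2 _ (M.step _ (iso_pv hij h2) (M.r i j 1 x)))

theorem U_tau (h : i ≠ j) {v : Vec n} (hv : Iso v) (x : V) :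
    M.U i j (M.tau v x) = M.tau (tv (pv i j (GF4.w ^ 2)) (tv (pv i j 1) v)) (M.U i j x) := by
  rw [U_apply, U_apply, r, r, M.swap (iso_pv h one_ne_zero) hv,
    M.swap (iso_pv h K.w_ne.2.2.2.2) (hv.tv (iso_pv h one_ne_zero).2)]

end

end UMod

theorem dv_apply {n : ℕ} {i j : Fin n} (h : i ≠ j) (v : Vec n) (k : Fin n) :
    tv (pv i j (GF4.w ^ 2)) (tv (pv i j 1) v) k =
      if k = i then GF4.w * v i else if k = j then GF4.w ^ 2 * v j else v k := by
  rw [tv_pv h K.w_ne.2.2.2.2, tv_pv h one_ne_zero, tv_pv h one_ne_zero, tv_pv h one_ne_zero]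
  by_cases h1 : k = i
  · simp [h1, h.symm, K.sq_sq]
  · by_cases h2 : k = j
    · simp [h2, h.symm]
    · simp [h1, h2]

end CfsgLib.TwoRadicalSU
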